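import Groth.Agent.Etrest.TorsEt
import Groth.Agent.Etbc.H208.PrimDev
import Groth.Agent.Sga5.EtKilled
import Groth.Agent.Etbc.H212.CdAt
import Mathlib.Algebra.Homology.DerivedCategory.Ext.ExactSequences

/-!
# Devissage of the cohomology of torsion sheaves: from `cd_ℓ` for all primes `ℓ` to `cd`
-/

set_option autoImplicit false
universe u
open CategoryTheory CategoryTheory.Limits CategoryTheory.Abelian AlgebraicGeometry Opposite TopologicalSpace

namespace K775.Tors

open Groth.Agent.Etrest.Tors Groth.Agent.EtpbcA.TorsColim Groth.Agent.Etrest.TorsEt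

variable {X : Scheme.{u}}

theorem H_mid {S : ShortComplex (EtCoh.Ab X)} (hS : S.ShortExact) (q : ℕ)
    (h₁ : Subsingleton (EtCoh.H X S.X₁ q)) (h₃ : Subsingleton (EtCoh.H X S.X₃ q)) :
    Subsingleton (EtCoh.H X S.X₂ q) := by
  refine subsingleton_of_forall_eq 0 fun x => ?_
  obtain ⟨y, rfl⟩ := Abelian.Ext.covariant_sequence_exact₂ _ hS x (h₃.elim _ _)
  rw [Subsingleton.elim y 0, Abelian.Ext.zero_comp]

/-- The extension of `F / F[ℓ]` by `F[ℓ]`. -/
theorem exists_ext {F : EtCoh.Ab X} (ℓ n' : ℕ) (hk : EtCoh.KilledBy (ℓ * n') F) :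
    ∃ S : ShortComplex (EtCoh.Ab X), S.ShortExact ∧ S.X₂ = F ∧
      EtCoh.KilledBy ℓ S.X₁ ∧ EtCoh.KilledBy n' S.X₃ := by
  let a : F ⟶ F := ℓ • 𝟙 F
  have hK1 : EtCoh.KilledBy ℓ (kernel a) := by
    rw [Groth.Agent.Sga5.EtKilled.killedBy_iff, ← cancel_mono (kernel.ι a), zero_comp,
      Preadditive.nsmul_comp, Category.id_comp]
    have h1 := kernel.condition a
    simpa [a, Preadditive.comp_nsmul] using h1
  let S : ShortComplex (EtCoh.Ab X) := ShortComplex.mk (kernel.ι a) (cokernel.π (kernel.ι a))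
    (cokernel.condition _)
  have hS : S.ShortExact := ShortComplex.ShortExact.mk' (ShortComplex.exact_cokernel _) inferInstance
    inferInstance
  have hQ1 : EtCoh.KilledBy n' (cokernel (kernel.ι a)) := by
    let ι : cokernel (kernel.ι a) ⟶ F := cokernel.desc _ a (kernel.condition a)
    have hι : Mono ι := by
      have : ι = Abelian.factorThruCoimage a := by
        rw [← cancel_epi (cokernel.π (kernel.ι a)), cokernel.π_desc]
      rw [this]
      infer_instance
    rw [Groth.Agent.Sga5.EtKilled.killedBy_iff, ← cancel_mono ι, ← cancel_epi (cokernel.π (kernel.ι a)),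
      zero_comp, comp_zero, Preadditive.nsmul_comp, Category.id_comp, Preadditive.comp_nsmul, cokernel.π_desc]
    rw [Groth.Agent.Sga5.EtKilled.killedBy_iff, mul_comm, mul_smul] at hk
    exact hk
  exact ⟨S, hS, rfl, hK1, hQ1⟩

theorem isPrimaryTorsion_of_killedBy {ℓ : ℕ} {F : EtCoh.Ab X} (h : EtCoh.KilledBy ℓ F) :
    _root_.Dix.IsPrimaryTorsion ℓ F := fun U s x =>
  ⟨U, 𝟙 U, ⟨x, rfl⟩, 1, by rw [pow_one]; exact h U _⟩

/-- Sheaves killed by a positive integer. -/
theorem subsingleton_of_killedBy {d : ℕ} (h : ∀ ℓ : ℕ, ℓ.Prime → _root_.Dix.CohDimLEAt X ℓ d) (n : ℕ)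
    (hn : n ≠ 0) (F : EtCoh.Ab X) (hF : EtCoh.KilledBy n F) (q : ℕ) (hq : d < q) :
    Subsingleton (EtCoh.H X F q) := by
  induction n using induction_on_primes generalizing F with
  | zero => exact absurd rfl hn
  | one =>
    exact h 2 Nat.prime_two F (isPrimaryTorsion_of_killedBy (fun U s => by
      have := hF U s
      rw [one_smul] at this
      rw [this, smul_zero])) q hq
  | prime_mul p a hp ih =>
    obtain ⟨S, hS, rfl, h1, h3⟩ := exists_ext p a hF
    exact H_mid hS q (h p hp _ (isPrimaryTorsion_of_killedBy h1) q hq)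
      (ih (fun h => hn (by rw [h, mul_zero])) _ h3)

/-- Torsion sheaves from sheaves killed by a positive integer. -/
theorem subsingleton_of_isTorsion [CompactSpace X] [QuasiSeparatedSpace X]
    (q : ℕ) (h : ∀ (n : ℕ) (G : EtCoh.Ab X), n ≠ 0 → EtCoh.KilledBy n G → Subsingleton (EtCoh.H X G q))
    (F : EtCoh.Ab X) (htors : EtCoh.IsTorsion F) : Subsingleton (EtCoh.H X F q) := by
  have hadd := Groth.Agent.S0124.additive_HF X q
  have hpres := Groth.Agent.S0124.preservesNat X q
  have := isIso_torι_of_isTorsion F htors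
  obtain ⟨e⟩ := nonempty_iso_tor F
  let e' : colimit (kernel (δ F)) ≅ F := e ≪≫ asIso (torι.app F)
  have hD : ∀ n, Subsingleton ((EtCoh.HF X q).obj ((kernel (δ F)).obj n)) := fun n =>
    h _ _ (Nat.factorial_pos n).ne' (killedBy_of_nsmul (nsmul_kernel_δ F n))
  have hc := isColimitOfPreserves (EtCoh.HF X q) (colimit.isColimit (kernel (δ F)))
  have hsub : Subsingleton ((EtCoh.HF X q).obj (colimit (kernel (δ F)))) := by
    have : PreservesFilteredColimitsOfSize.{0, 0} (forget AddCommGrpCat.{u + 1}) :=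
      preservesSmallestFilteredColimits_of_preservesFilteredColimits _
    refine ⟨fun x y => ?_⟩
    have key : ∀ z : (EtCoh.HF X q).obj (colimit (kernel (δ F))), z = 0 := by
      intro z
      obtain ⟨n, w, hw⟩ := Concrete.isColimit_exists_rep (kernel (δ F) ⋙ EtCoh.HF X q) hc z
      have h0 : w = 0 := (hD n).elim _ _
      rw [← hw, h0]
      exact map_zero _
    rw [key x, key y]
  exact ((EtCoh.HF X q).mapIso e').symm.addCommGroupIsoToAddEquiv.toEquiv.subsingleton

theorem cohDimLE_of_primes [CompactSpace X] [QuasiSeparatedSpace X] {d : ℕ}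
    (h : ∀ ℓ : ℕ, ℓ.Prime → _root_.Dix.CohDimLEAt X ℓ d) : EtCoh.CohDimLE X d := fun F hF q hq =>
  subsingleton_of_isTorsion q (fun n G hn hG => subsingleton_of_killedBy h n hn G hG q hq) F hF

end K775.Tors
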