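import Groth.Agent.HLoc2.K775.Setup
import Groth.Agent.S3491
import Groth.Agent.Sga4h.UlaDvr
import Groth.Agent.Etbc.H208.CdUpper
import Groth.Agent.Etbc.H212.CdAt
import Groth.Agent.EtpbcB.StrHensEquiv

/-!
# Cohomological dimension of the two-dimensional local setting
-/

set_option autoImplicit false
universe u
open CategoryTheory CategoryTheory.Limits AlgebraicGeometry Opposite TopologicalSpace

namespace K775.Cd

open K775.Setup

variable {X : Scheme.{u}}

theorem eq_genericPoint (h : Ded X) [IrreducibleSpace X] {x y : X} (hxy : x ⤳ y) (hne : x ≠ y) :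
    x = genericPoint X := by
  have := h.int
  have hP := h.pid y
  have hx : x ∈ Set.range (X.fromSpecStalk y) := by rw [Scheme.range_fromSpecStalk]; exact hxy
  obtain ⟨p, rfl⟩ := hx
  have hp : p.asIdeal = ⊥ := by
    by_contra hb
    have hm : p.asIdeal.IsMaximal := IsPrime.to_maximal_ideal hb
    have h1 : p = IsLocalRing.closedPoint _ := PrimeSpectrum.ext (IsLocalRing.eq_maximalIdeal hm)
    exact hne (by rw [h1, Scheme.fromSpecStalk_closedPoint])
  have hη : genericPoint X ∈ Set.range (X.fromSpecStalk y) := by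
    rw [Scheme.range_fromSpecStalk]; exact genericPoint_specializes y
  obtain ⟨q, hq⟩ := hη
  have h2 : p ⤳ q := by
    refine (PrimeSpectrum.le_iff_specializes (R := X.presheaf.stalk y) p q).1 ?_
    change p.asIdeal ≤ q.asIdeal
    rw [hp]
    exact bot_le
  have h3 : X.fromSpecStalk y p ⤳ genericPoint X := hq ▸ h2.map (X.fromSpecStalk y).continuous
  exact (h3.antisymm (genericPoint_specializes _)).eq

theorem isClosed_singleton (h : Ded X) [IrreducibleSpace X] {x : X} (hx : x ≠ genericPoint X) :
    IsClosed ({x} : Set X) := by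
  have h1 : closure ({x} : Set X) = {x} := by
    refine Set.Subset.antisymm (fun y hy => ?_) subset_closure
    by_contra hne
    have h2 : x ⤳ y := specializes_iff_mem_closure.2 hy
    exact hx (eq_genericPoint h h2 (fun e => hne e.symm))
  rw [← h1]
  exact isClosed_closure

theorem ker_specMap (h : Ded X) [IrreducibleSpace X] {y : X} (hy : genericPoint X ⤳ y) :
    RingHom.ker (Cyc.specMap y (genericPoint X) hy) = ⊥ := by
  have := h.int
  rw [← RingHom.injective_iff_ker_eq_bot]
  have h1 : Function.Injective (X.presheaf.stalkSpecializes hy).hom :=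
    IsFractionRing.injective (X.presheaf.stalk y) X.functionField
  have h2 : Function.Injective (X.residue (genericPoint X)).hom := by
    let _ : Field (X.presheaf.stalk (genericPoint X)) := (inferInstance : Field X.functionField)
    exact (X.residue (genericPoint X)).hom.injective
  have h3 : Cyc.specMap y (genericPoint X) hy =
      (X.residue (genericPoint X)).hom.comp (X.presheaf.stalkSpecializes hy).hom := rfl
  rw [h3]
  exact h2.comp h1

theorem isUnit_natCast (h : Ded X) (y : X) {n : ℕ} (hn : 0 < n) : IsUnit (n : X.presheaf.stalk y) := by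
  by_contra hu
  have h1 : (n : X.presheaf.stalk y) ∈ IsLocalRing.maximalIdeal (X.presheaf.stalk y) :=
    (IsLocalRing.mem_maximalIdeal _).2 hu
  refine h.char0 n hn y ?_
  have h2 : IsLocalRing.residue (X.presheaf.stalk y) (n : X.presheaf.stalk y) = 0 :=
    (IsLocalRing.residue_eq_zero_iff _).2 h1
  rw [map_natCast] at h2
  exact h2

/-- `cd_ℓ(Frac(R/P)) ≤ 1` for the strict localizations. -/
theorem cd_frac (h : Ded X) [IrreducibleSpace X] {ℓ : ℕ} (hℓ : ℓ.Prime) (x y : X) (hxy : x ⤳ y) (hne : x ≠ y)
    (R : Type u) [CommRing R] [IsLocalRing R] [Algebra (X.presheaf.stalk y) R]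
    [IsLocalHom (algebraMap (X.presheaf.stalk y) R)] [Hensel.IsStrictHenselization (X.presheaf.stalk y) R]
    (P : Ideal R) (hP : P ∈ ((RingHom.ker (Cyc.specMap y x hxy)).map
      (algebraMap (X.presheaf.stalk y) R)).minimalPrimes) :
    Dix.CohDimLEAt (Spec (CommRingCat.of (FractionRing (R ⧸ P)))) ℓ 1 := by
  have := h.int
  have := h.reg y
  have hx := eq_genericPoint h hxy hne
  subst hx
  rw [ker_specMap h, Ideal.map_bot] at hP
  have hR := Groth.Agent.Sga4h.UlaDvr.isField_or_dvr_of_ring (X.presheaf.stalk y) R (h.dim y)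
  have hdom : IsDomain R := by
    rcases hR with hR | ⟨hR, -⟩
    · exact hR.isDomain
    · exact hR
  have hpid : IsPrincipalIdealRing R := by
    rcases hR with hR | ⟨_, hR⟩
    · let _ := hR.toField
      infer_instance
    · infer_instance
  have hP0 : P = ⊥ := by
    have h1 : P ∈ minimalPrimes R := hP
    rw [IsDomain.minimalPrimes_eq_singleton_bot] at h1
    exact h1
  have hPp : P.IsPrime := hP.1.1
  have hloc : IsLocalRing (R ⧸ P) := IsLocalRing.of_surjective' (Ideal.Quotient.mk P) Ideal.Quotient.mk_surjective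
  have hpid' : IsPrincipalIdealRing (R ⧸ P) :=
    IsPrincipalIdealRing.of_surjective (Ideal.Quotient.mk P) Ideal.Quotient.mk_surjective
  have hsh : EtCoh.IsStrictlyHenselianLocalRing R :=
    ⟨Hensel.IsStrictHenselization.henselian (X.presheaf.stalk y),
      (Hensel.IsStrictHenselization.isSepClosure (R := X.presheaf.stalk y) (S := R)).sep_closed⟩
  have e : R ≃+* R ⧸ P := (RingEquiv.quotientBot R).symm.trans (Ideal.quotEquivOfEq hP0.symm)
  have hsh' : EtCoh.IsStrictlyHenselianLocalRing (R ⧸ P) :=
    Groth.Agent.EtpbcB.StrHensEquiv.isStrictlyHenselian_of_ringEquiv e hsh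
  refine Groth.Agent.Etbc.H208.CdUpper.cohDimLEAt_pid (R ⧸ P) (FractionRing (R ⧸ P)) hsh' hℓ ?_ 1 (fun _ => le_rfl)
  have h1 := (isUnit_natCast h y hℓ.pos).map ((Ideal.Quotient.mk P).comp (algebraMap (X.presheaf.stalk y) R))
  rwa [map_natCast] at h1

/-- The setting of the statements: a Noetherian normal integral scheme of dimension at most one over `ℚ` whose
residue fields have cohomological dimension at most two, and at most one at the points which are not generic. -/
structure HL (X : Scheme.{u}) : Prop where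
  ded : Ded X
  cdK : ∀ x : X, EtCoh.CohDimLE (Spec (X.residueField x)) 2
  cdv : ∀ x : X, (∃ y : X, y ⤳ x ∧ y ≠ x) → EtCoh.CohDimLE (Spec (X.residueField x)) 1

theorem cohDimLEAt (h : HL X) {ℓ : ℕ} (hℓ : ℓ.Prime) : Dix.CohDimLEAt X ℓ 3 := by
  classical
  have := h.ded.int
  have := h.ded.noeth
  intro F hF q hq
  refine Groth.Agent.S3491.result X ℓ hℓ (fun x => if ∃ y : X, y ⤳ x ∧ y ≠ x then 1 else 3) (fun x => ?_) ?_ F hF q
    (fun x _ => ?_)
  · split_ifs with hx
    · exact Groth.Agent.Etbc.H212.CdAt.cohDimLEAt_of_cohDimLE hℓ.pos (h.cdv x hx)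
    · intro F hF q hq
      exact Groth.Agent.Etbc.H212.CdAt.cohDimLEAt_of_cohDimLE hℓ.pos (h.cdK x) F hF q (by omega)
  · intro x y hxy hne R _ _ _ _ _ P hP
    refine ⟨1, ?_, cd_frac h.ded hℓ x y hxy hne R P hP⟩
    have hy : ∃ z : X, z ⤳ y ∧ z ≠ y := ⟨x, hxy, hne⟩
    have hx : ¬ ∃ z : X, z ⤳ x ∧ z ≠ x := by
      rintro ⟨z, hz, hzx⟩
      have h1 := eq_genericPoint h.ded hz hzx
      have h2 := eq_genericPoint h.ded hxy hne
      exact hzx (h1.trans h2.symm)
    simp only [if_pos hy, if_neg hx]
    omega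
  · split_ifs <;> omega

end K775.Cd
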