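import Groth.Agent.Etcore.OpenClosed
import Groth.Prelude.Def_PBC
import Mathlib.AlgebraicGeometry.Morphisms.ClosedImmersion

/-!
# Sheaves with finite support of closed points are direct sums of skyscraper sheaves
-/

set_option autoImplicit false
universe u
open CategoryTheory CategoryTheory.Limits AlgebraicGeometry Opposite TopologicalSpace

namespace K775.Decomp

open Groth.Agent.Etcore

attribute [local instance] Abelian.hasFiniteBiproducts

section abs

variable {C D : Type*} [Category* C] [Category* D] [Abelian C] [Abelian D] (S : C ⥤ D) [S.Additive]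
  {J : Type*} [Finite J] {F : C} (G : J → C) (a : ∀ j, F ⟶ G j)

theorem isZero_biproduct (h0 : ∀ j, IsZero (S.obj (G j))) : IsZero (S.obj (⨁ G)) := by
  classical
  have := Fintype.ofFinite J
  have ht : ∑ j : J, biproduct.π G j ≫ biproduct.ι G j = 𝟙 (⨁ G) := IsBilimit.total (biproduct.isBilimit _)
  rw [IsZero.iff_id_eq_zero, ← S.map_id, ← ht, S.map_sum]
  refine Finset.sum_eq_zero fun j _ => ?_
  rw [S.map_comp, (h0 j).eq_of_tgt (S.map (biproduct.π G j)) 0, zero_comp]

theorem isIso_map_lift (j₀ : J) (ha : IsIso (S.map (a j₀))) (h0 : ∀ j, j ≠ j₀ → IsZero (S.obj (G j))) :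
    IsIso (S.map (biproduct.lift a)) := by
  classical
  have := Fintype.ofFinite J
  have h1 : S.map (biproduct.ι G j₀) ≫ S.map (biproduct.π G j₀) = 𝟙 _ := by
    rw [← S.map_comp, biproduct.ι_π_self, S.map_id]
  have h2 : S.map (biproduct.π G j₀) ≫ S.map (biproduct.ι G j₀) = 𝟙 _ := by
    have ht : ∑ j : J, biproduct.π G j ≫ biproduct.ι G j = 𝟙 (⨁ G) := IsBilimit.total (biproduct.isBilimit _)
    rw [← S.map_id, ← ht, S.map_sum, ← S.map_comp]
    rw [Finset.sum_eq_single j₀]
    · intro j _ hj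
      rw [S.map_comp, (h0 j hj).eq_of_tgt (S.map (biproduct.π G j)) 0, zero_comp]
    · intro h
      exact absurd (Finset.mem_univ _) h
  have h5 : IsIso (S.map (biproduct.π G j₀)) := ⟨_, h2, h1⟩
  have h6 : S.map (biproduct.lift a) ≫ S.map (biproduct.π G j₀) = S.map (a j₀) := by
    rw [← S.map_comp, biproduct.lift_π]
  have h7 : IsIso (S.map (biproduct.lift a) ≫ S.map (biproduct.π G j₀)) := by rw [h6]; exact ha
  exact IsIso.of_isIso_comp_right _ (S.map (biproduct.π G j₀))

end abs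

variable {X : Scheme.{u}}

theorem isZero_stalk_of_notMem {F : EtCoh.Ab X} {Ω : Type u} [Field Ω] [IsSepClosed Ω]
    (ξ : Spec (CommRingCat.of Ω) ⟶ X) (h : ξ default ∉ EtPBC.supp F) : IsZero ((EtCoh.stalk ξ).obj F) := by
  by_contra hz
  refine h ⟨Ω, inferInstance, inferInstance, ξ, ?_, hz⟩
  ext x
  constructor
  · rintro ⟨y, rfl⟩
    rw [Subsingleton.elim y default]
    rfl
  · rintro rfl
    exact ⟨default, rfl⟩

/-- The stalk of a skyscraper sheaf away from the point. -/
theorem isZero_stalk_push_pt (v : X) (hv : IsClosed ({v} : Set X)) (H : EtCoh.Ab (Spec (X.residueField v)))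
    {Ω : Type u} [Field Ω] [IsSepClosed Ω] (ξ : Spec (CommRingCat.of Ω) ⟶ X) (h : ξ default ≠ v) :
    IsZero ((EtCoh.stalk ξ).obj ((EtCoh.push (X.fromSpecResidueField v)).obj H)) := by
  let U : X.Opens := ⟨{v}ᶜ, hv.isOpen_compl⟩
  have hr : Set.range U.ι = ({v}ᶜ : Set X) := Scheme.Opens.range_ι U
  refine OpenClosed.isZero_stalk_push (X.fromSpecResidueField v) U.ι ?_ ξ ?_ H
  · rw [hr, Scheme.range_fromSpecResidueField]
    exact disjoint_compl_right
  · rw [hr]
    exact h

/-- `F ≅ ⨁_{v ∈ Z} i_{v*} i_v⁻¹ F` for `supp F ⊆ Z`, `Z` a finite set of closed points. -/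
theorem isIso_lift (Z : Set X) [Finite Z] (hZ : ∀ v : Z, IsClosed ({v.1} : Set X)) (F : EtCoh.Ab X)
    (hF : EtPBC.supp F ⊆ Z) :
    IsIso (biproduct.lift (fun v : Z => (EtCoh.pullPushAdj (X.fromSpecResidueField v.1)).unit.app F)) := by
  rw [Stalks.isIso_iff_stalks]
  intro Ω _ _ ξ
  by_cases h : ξ default ∈ Z
  · have hc : IsClosedImmersion (X.fromSpecResidueField (ξ default)) :=
      isClosed_singleton_iff_isClosedImmersion.1 (hZ ⟨_, h⟩)
    refine isIso_map_lift (EtCoh.stalk ξ) _ _ ⟨ξ default, h⟩ ?_ fun j hj => ?_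
    · refine OpenClosed.isIso_stalk_unit (X.fromSpecResidueField (ξ default)) ξ ?_ F
      rw [Scheme.range_fromSpecResidueField]
      rfl
    · exact isZero_stalk_push_pt j.1 (hZ j) _ ξ fun he => hj (Subtype.ext he.symm)
  · have h1 : IsZero ((EtCoh.stalk ξ).obj F) := isZero_stalk_of_notMem ξ fun h' => h (hF h')
    have h2 := isZero_biproduct (EtCoh.stalk ξ)
      (fun v : Z => (EtCoh.push (X.fromSpecResidueField v.1)).obj ((EtCoh.pull (X.fromSpecResidueField v.1)).obj F))
      (fun j => isZero_stalk_push_pt j.1 (hZ j) _ ξ fun he => h (he ▸ j.2))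
    exact ⟨0, h1.eq_of_src _ _, h2.eq_of_src _ _⟩

end K775.Decomp
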