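import Groth.Agent.HLoc2.K775.Setup
import Mathlib.AlgebraicGeometry.Properties
import Mathlib.Topology.KrullDimension

/-!
# The topological dimension of `Ded` schemes
-/

set_option autoImplicit false
universe u
open CategoryTheory CategoryTheory.Limits AlgebraicGeometry Opposite TopologicalSpace

namespace K775.Dim

open K775.Setup

theorem topologicalKrullDim_eq (X : Scheme.{u}) :
    topologicalKrullDim X = ⨆ x : X, ringKrullDim (X.presheaf.stalk x) := by
  rw [show topologicalKrullDim X = Order.krullDim X from
    Order.krullDim_eq_of_orderIso irreducibleSetEquivPoints]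
  simp_rw [ringKrullDim_stalk_eq_coheight]
  exact Order.krullDim_eq_iSup_coheight

theorem topologicalKrullDim_le_one {X : Scheme.{u}} (h : Ded X) : topologicalKrullDim X ≤ 1 := by
  rw [topologicalKrullDim_eq, iSup_le_iff]
  exact h.dim

end K775.Dim
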