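import Groth.Agent.EtpbcB.RDerLES
import Groth.Agent.CohtopA.ExtAdj
import Mathlib.Algebra.Homology.DerivedCategory.Ext.ExactSequences
import Mathlib.Algebra.Homology.DerivedCategory.Ext.EnoughInjectives

/-!
# `Ext(F, R G)` when `L F = 0` and the higher derived functors of `R` vanish on `G`
-/

set_option autoImplicit false
universe w v u v' u'

open CategoryTheory CategoryTheory.Limits CategoryTheory.Abelian

namespace K775.ExtPush

variable {C : Type u} [Category.{v} C] [Abelian C] [EnoughInjectives C]
  {D : Type u'} [Category.{v'} D] [Abelian D] [HasExt.{w} D]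
  (L : D ⥤ C) (R : C ⥤ D) [R.Additive] (adj : L ⊣ R) [PreservesFiniteLimits L]

include adj in
theorem subsingleton_ext (F : D) (hF : IsZero (L.obj F)) (r : ℕ) :
    ∀ (G : C) (_ : ∀ q, IsZero ((R.rightDerived (q + 1)).obj G)), Subsingleton (Ext F (R.obj G) r) := by
  have : PreservesFiniteLimits R := ⟨fun _ => (adj.rightAdjoint_preservesLimits.{0, 0}).preservesLimitsOfShape⟩
  induction r with
  | zero =>
    intro G _
    have h1 : Subsingleton (F ⟶ R.obj G) := by
      refine (adj.homEquiv F G).symm.subsingleton_congr.2 ?_
      exact ⟨fun a b => hF.eq_of_src a b⟩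
    exact (Ext.addEquiv₀ (X := F) (Y := R.obj G)).toEquiv.subsingleton
  | succ r ih =>
    intro G hG
    let S : ShortComplex C := ShortComplex.mk (Injective.ι G) (cokernel.π (Injective.ι G)) (cokernel.condition _)
    have hS : S.ShortExact :=
      { exact := ShortComplex.exact_cokernel _
        mono_f := inferInstanceAs (Mono (Injective.ι G))
        epi_g := inferInstanceAs (Epi (cokernel.π (Injective.ι G))) }
    have hmono := hS.mono_f
    have hRS : (S.map R).ShortExact :=
      { exact := hS.exact.map_of_mono_of_preservesKernel R hS.mono_f inferInstance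
        mono_f := inferInstanceAs (Mono (R.map S.f))
        epi_g := Groth.Agent.EtpbcB.RDerLES.epi_map_g R hS (hG 0) }
    have hI : Injective S.X₂ := inferInstanceAs (Injective (Injective.under G))
    have hRI : Injective ((S.map R).X₂) := Injective.injective_of_adjoint adj S.X₂
    have h3 : Subsingleton (Ext F (S.map R).X₃ r) := ih S.X₃ (fun q => Groth.Agent.EtpbcB.RDerLES.isZero_right R hS (q + 1)
      (R.isZero_rightDerived_obj_injective_succ q S.X₂) (hG (q + 1)))
    refine subsingleton_of_forall_eq 0 fun x => ?_
    obtain ⟨y, rfl⟩ := Ext.covariant_sequence_exact₁ F hRS x (Ext.eq_zero_of_injective _) rfl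
    rw [Subsingleton.elim y 0, Ext.zero_comp]
    rfl

end K775.ExtPush
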