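import Groth.Agent.Etrest.EtExtStalk
import Groth.Agent.Etrest.ShriekProper
import Groth.Agent.S0648
import Groth.Agent.S0101
import Groth.Agent.Sga4h.EtaleRes
import Groth.Agent.CohtopA.ExtAdj
import Groth.Prelude.Def_EtCore

/-!
# `Ext(j_! G, A) = Ext(G, j⁻¹ A)` for étale `j`, and `Ext(ρ_* G, A) = Ext(G, ρ⁻¹ A)` for finite étale `ρ`
-/

set_option autoImplicit false
universe w v u
open CategoryTheory CategoryTheory.Limits CategoryTheory.Abelian AlgebraicGeometry Opposite TopologicalSpace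

namespace K775.ExtShriek

open Groth.Agent

variable {U X : Scheme.{u}}

noncomputable def adj (j : U ⟶ X) [Etale j] [EtShriek.JCont j] : EtShriek.extZero j ⊣ EtCoh.pull j :=
  (EtShriek.extZeroAdj j).ofNatIsoRight (Sga4h.EtaleRes.pullIsoRestr j).symm

/-- `Ext(j_! G, A) = Ext(G, j⁻¹ A)`. -/
theorem nonempty_extZero (j : U ⟶ X) [Etale j] [EtShriek.JCont j] (G : EtCoh.Ab U) (A : EtCoh.Ab X) (s : ℕ) :
    Nonempty (Ext.{u + 1} ((EtShriek.extZero j).obj G) A s ≃+ Ext.{u + 1} G ((EtCoh.pull j).obj A) s) := by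
  have h1 := Groth.Agent.S0648.result j
  have h2 := Groth.Agent.S0101.result j
  exact ⟨Groth.Agent.CohtopA.ExtAdj.extOfHomEquiv (EtCoh.pull j) ((adj j).unit.app G)
    (fun Y => ((adj j).homEquiv G Y).bijective)
    (fun I _ n => by
      have : Injective ((EtCoh.pull j).obj I) := Injective.injective_of_adjoint (adj j) I
      exact Ext.subsingleton_of_injective _ _ _) A s⟩

/-- `ρ_! = ρ_*` for finite étale `ρ`. -/
noncomputable def extZeroIsoPush (ρ : U ⟶ X) [IsFinite ρ] [Etale ρ] [EtShriek.JCont ρ] :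
    EtShriek.extZero ρ ≅ EtCoh.push ρ :=
  Etrest.EtExtStalk.extZeroIsoLowerShriek ρ ≪≫ Etrest.ShriekProper.lowerShriekIsoPush ρ

theorem subsingleton_push (ρ : U ⟶ X) [IsFinite ρ] [Etale ρ] (G : EtCoh.Ab U) (A : EtCoh.Ab X) (s : ℕ)
    (h : Subsingleton (Ext.{u + 1} G ((EtCoh.pull ρ).obj A) s)) :
    Subsingleton (Ext.{u + 1} ((EtCoh.push ρ).obj G) A s) := by
  have := Sga4h.EtaleRes.jCont ρ
  obtain ⟨e⟩ := nonempty_extZero ρ G A s
  have h1 : Subsingleton (Ext.{u + 1} ((EtShriek.extZero ρ).obj G) A s) := e.toEquiv.subsingleton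
  let i := (extZeroIsoPush ρ).app G
  refine subsingleton_of_forall_eq 0 fun x => ?_
  have h2 : (Ext.mk₀ i.hom).comp x (zero_add s) = 0 := h1.elim _ _
  have h3 := congrArg (fun y => (Ext.mk₀ i.inv).comp y (zero_add s)) h2
  rwa [Ext.mk₀_comp_mk₀_assoc, Iso.inv_hom_id, Ext.mk₀_id_comp, Ext.comp_zero] at h3

end K775.ExtShriek
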