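import Groth.Agent.Dix.AwayTors
import Groth.Agent.Dix.ExtSeq
import Groth.Agent.Sga5.EtKilled
import Groth.Agent.HLoc2.K775.Tors

/-!
# Cohomology of divisible sheaves over a field of cohomological dimension one
-/

set_option autoImplicit false
universe u
open CategoryTheory CategoryTheory.Limits CategoryTheory.Abelian AlgebraicGeometry Opposite TopologicalSpace

namespace K775.FieldDiv

/-- The étale cohomology of a field is torsion in positive degrees. -/
theorem isAddTorsion_field (K : Type u) [Field K] (B : EtCoh.Ab (Spec (CommRingCat.of K))) (q : ℕ) (hq : 1 ≤ q) :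
    IsAddTorsion (EtCoh.H (Spec (CommRingCat.of K)) B q) := by
  have hK : Unique (Spec (CommRingCat.of K)) := inferInstanceAs (Unique (PrimeSpectrum K))
  refine Groth.Agent.Dix.AwayTors.isAddTorsion_of_supp {default} (fun x _ => ?_) B (fun U hU s => ?_) q hq
  · have : ({x} : Set (Spec (CommRingCat.of K))) = Set.univ := Set.eq_univ_of_forall fun y => Subsingleton.elim _ _
    rw [this]
    exact isClosed_univ
  · refine Groth.Agent.Etbase.EtSite.sect_eq_zero B U s (fun x => ?_)
    exact absurd (Finset.mem_singleton.2 (hK.uniq (U.hom x))) (hU x)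

/-- Multiplication by a prime is injective on the cohomology of divisible sheaves. -/
theorem eq_zero_of_nsmul {X : Scheme.{u}} (B : EtCoh.Ab X) (q : ℕ)
    (hdiv : ∀ ℓ : ℕ, ℓ.Prime → Epi (ℓ • 𝟙 B))
    (hk : ∀ (ℓ : ℕ) (G : EtCoh.Ab X), ℓ.Prime → EtCoh.KilledBy ℓ G → Subsingleton (EtCoh.H X G q)) (n : ℕ)
    (hn : n ≠ 0) (x : EtCoh.H X B q) (hx : n • x = 0) : x = 0 := by
  induction n using induction_on_primes generalizing x with
  | zero => exact absurd rfl hn
  | one => rwa [one_smul] at hx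
  | prime_mul p a hp ih =>
    rw [mul_comm, mul_smul] at hx
    have h1 : p • x = 0 := ih (fun h => hn (by rw [h, mul_zero])) _ hx
    have := hdiv p hp
    have h2 : Ext.comp x (Ext.mk₀ (p • 𝟙 B)) (add_zero q) = 0 :=
      (Groth.Agent.Dix.ExtSeq.comp_mk₀_nsmul_id (Y := B) x p).trans h1
    obtain ⟨η, hη⟩ := Groth.Agent.Dix.ExtSeq.exists_of_comp_eq_zero_of_epi (p • 𝟙 B) x h2
    have h3 : EtCoh.KilledBy p (kernel (p • 𝟙 B)) := by
      rw [Groth.Agent.Sga5.EtKilled.killedBy_iff, ← cancel_mono (kernel.ι (p • 𝟙 B)), zero_comp,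
        Preadditive.nsmul_comp, Category.id_comp]
      have h1 := kernel.condition (p • 𝟙 B)
      simpa [Preadditive.comp_nsmul] using h1
    have h4 := hk p _ hp h3
    have h5 : η = 0 := h4.elim _ _
    rw [← hη, h5, Ext.zero_comp]

/-- Divisible sheaves over a field of cohomological dimension at most one. -/
theorem subsingleton_H_of_div (K : Type u) [Field K] (B : EtCoh.Ab (Spec (CommRingCat.of K)))
    (hdiv : ∀ ℓ : ℕ, ℓ.Prime → Epi (ℓ • 𝟙 B))
    (hcd : ∀ ℓ : ℕ, ℓ.Prime → _root_.Dix.CohDimLEAt (Spec (CommRingCat.of K)) ℓ 1) (q : ℕ) (hq : 2 ≤ q) :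
    Subsingleton (EtCoh.H (Spec (CommRingCat.of K)) B q) := by
  refine subsingleton_of_forall_eq 0 fun x => ?_
  obtain ⟨n, hn, hx⟩ := isOfFinAddOrder_iff_nsmul_eq_zero.1 (isAddTorsion_field K B q (by omega) x)
  exact eq_zero_of_nsmul B q hdiv (fun ℓ G hℓ hG => hcd ℓ hℓ G (K775.Tors.isPrimaryTorsion_of_killedBy hG) q
    (by omega)) n hn.ne' x hx

end K775.FieldDiv
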