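import Groth.Agent.HLoc2.K775.Pt
import Groth.Agent.HLoc2.K775.Decomp

/-!
# `Ext(F, G_m)` for sheaves with finite support
-/

set_option autoImplicit false
universe w v u
open CategoryTheory CategoryTheory.Limits CategoryTheory.Abelian AlgebraicGeometry Opposite TopologicalSpace

namespace K775.Supp

open K775.Setup K775.Pt K775.Decomp Groth.Agent

attribute [local instance] Abelian.hasFiniteBiproducts

/-- `Ext` is invariant under isomorphisms of the first variable. -/
noncomputable def extPre {C : Type u} [Category.{v} C] [Abelian C] [HasExt.{w} C] {A B : C} (e : A ≅ B) (G : C)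
    (r : ℕ) : Ext B G r ≃+ Ext A G r where
  toFun a := (Ext.mk₀ e.hom).comp a (zero_add r)
  invFun a := (Ext.mk₀ e.inv).comp a (zero_add r)
  left_inv a := by
    dsimp only
    rw [Ext.mk₀_comp_mk₀_assoc, Iso.inv_hom_id, Ext.mk₀_id_comp]
  right_inv a := by
    dsimp only
    rw [Ext.mk₀_comp_mk₀_assoc, Iso.hom_inv_id, Ext.mk₀_id_comp]
  map_add' a b := Ext.comp_add _ _ _ _

variable {X : Scheme.{u}}

theorem finite_of_isClosed (h : Ded X) (Z : Set X) (hZ : IsClosed Z) (hZU : Z ≠ Set.univ) : Z.Finite := by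
  have := h.noeth
  have := h.int
  obtain ⟨S, hSf, hSc, hSi, rfl⟩ := NoetherianSpace.exists_finite_set_isClosed_irreducible hZ
  refine hSf.sUnion fun t ht => ?_
  have hg := (hSi t ht).isGenericPoint_genericPoint (hSc t ht)
  refine (Set.finite_singleton (hSi t ht).genericPoint).subset fun z hz => ?_
  by_contra hne
  have h1 := K775.Cd.eq_genericPoint h (hg.specializes hz) (fun e => hne e.symm)
  refine hZU (Set.eq_univ_of_univ_subset ?_)
  have h2 : closure {(hSi t ht).genericPoint} ⊆ ⋃₀ S := closure_minimal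
    (Set.singleton_subset_iff.2 ⟨t, ht, hg.mem⟩) hZ
  rw [h1, (genericPoint_spec X)] at h2
  exact h2

theorem exists_generization (h : Ded X) (Z : Set X) (hZ : IsClosed Z) (hZU : Z ≠ Set.univ) (v : X) (hv : v ∈ Z) :
    ∃ y : X, y ⤳ v ∧ y ≠ v := by
  have := h.int
  refine ⟨genericPoint X, genericPoint_specializes v, fun e => hZU ?_⟩
  refine Set.eq_univ_of_univ_subset ?_
  have h2 : closure {genericPoint X} ⊆ Z := closure_minimal (Set.singleton_subset_iff.2 (e ▸ hv)) hZ
  rw [(genericPoint_spec X)] at h2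
  exact h2

theorem isZero_pull_cpl (v : X) (hv : IsClosed ({v} : Set X)) (H : EtCoh.Ab (Spec (X.residueField v))) :
    IsZero ((EtCoh.pull (cpl v hv).ι).obj ((EtCoh.push (X.fromSpecResidueField v)).obj H)) := by
  rw [Etcore.Stalks.isZero_iff_stalks]
  intro Ω _ _ ζ
  refine (isZero_stalk_push_pt v hv H (ζ ≫ (cpl v hv).ι) ?_).of_iso
    ((Etbase.StalkPull.stalkPullIso (cpl v hv).ι ζ).symm.app _)
  rw [Scheme.Hom.comp_apply]
  exact (ζ default).2

theorem main (h : Ded X) (F : EtCoh.Ab X) (Z : Set X) (hZ : IsClosed Z) (hZU : Z ≠ Set.univ)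
    (hsupp : EtPBC.supp F ⊆ Z) :
    Subsingleton (Abelian.Ext.{u + 1} F (EtCoh.Gm X) 0) ∧
      ∀ r : ℕ, Nonempty (Abelian.Ext.{u + 1} F (EtCoh.Gm X) (r + 1) ≃+
        (∀ v : ↥Z, Abelian.Ext.{u + 1} ((EtCoh.pull (X.fromSpecResidueField (v : X))).obj F)
          (EtCoh.const (Spec (X.residueField (v : X))) ℤ) r)) := by
  have hfin : Finite Z := (finite_of_isClosed h Z hZ hZU).to_subtype
  have hft : Fintype Z := Fintype.ofFinite Z
  have hg : ∀ v : Z, ∃ y : X, y ⤳ v.1 ∧ y ≠ v.1 := fun v => exists_generization h Z hZ hZU v.1 v.2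
  have hc : ∀ v : Z, IsClosed ({v.1} : Set X) := fun v => K775.Pt.isClosed h v.1 (hg v)
  let G : Z → EtCoh.Ab X := fun v =>
    (EtCoh.push (X.fromSpecResidueField v.1)).obj ((EtCoh.pull (X.fromSpecResidueField v.1)).obj F)
  have hz : ∀ v : Z, IsZero ((EtCoh.pull (cpl v.1 (hc v)).ι).obj (G v)) := fun v => isZero_pull_cpl v.1 (hc v) _
  let φ : F ⟶ ⨁ G := biproduct.lift (fun v : Z => (EtCoh.pullPushAdj (X.fromSpecResidueField v.1)).unit.app F)
  have hiso : IsIso φ := isIso_lift Z hc F hsupp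
  let e : F ≅ ⨁ G := asIso φ
  have E : ∀ r : ℕ, Nonempty (Abelian.Ext.{u + 1} F (EtCoh.Gm X) r ≃+
      ∀ v : Z, Abelian.Ext.{u + 1} (G v) (EtCoh.Gm X) r) := fun r =>
    ⟨(extPre e.symm (EtCoh.Gm X) r).trans (Ext.biproductAddEquiv (biproduct.isBilimit G) (EtCoh.Gm X) r)⟩
  constructor
  · obtain ⟨e0⟩ := E 0
    have : ∀ v : Z, Subsingleton (Abelian.Ext.{u + 1} (G v) (EtCoh.Gm X) 0) := fun v =>
      K775.Pt.ext_zero h v.1 (hg v) (hc v) (G v) (hz v)
    exact e0.toEquiv.subsingleton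
  · intro r
    obtain ⟨e1⟩ := E (r + 1)
    have e2 : ∀ v : Z, Nonempty (Abelian.Ext.{u + 1} (G v) (EtCoh.Gm X) (r + 1) ≃+
        Abelian.Ext.{u + 1} ((EtCoh.pull (X.fromSpecResidueField (v : X))).obj F)
          (EtCoh.const (Spec (X.residueField (v : X))) ℤ) r) := fun v => by
      obtain ⟨e3⟩ := K775.Pt.nonempty_equiv h v.1 (hg v) (hc v) (G v) (hz v) r
      have hcl : IsClosedImmersion (X.fromSpecResidueField v.1) :=
        isClosed_singleton_iff_isClosedImmersion.1 (hc v)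
      exact ⟨e3.trans (extPre (asIso ((EtCoh.pullPushAdj (X.fromSpecResidueField v.1)).counit.app
        ((EtCoh.pull (X.fromSpecResidueField v.1)).obj F))).symm _ r)⟩
    exact ⟨e1.trans (AddEquiv.piCongrRight fun v => (e2 v).some)⟩

end K775.Supp
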