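import Groth.Agent.HLoc2.K775.Flc
import Groth.Agent.HLoc2.K775.Supp
import Groth.Agent.S0127
import Groth.Agent.S0141

/-!
# `Ext^r(F, G_m) = 0` for `r ≥ 4` and `F` constructible
-/

set_option autoImplicit false
universe w v u
open CategoryTheory CategoryTheory.Limits CategoryTheory.Abelian AlgebraicGeometry Opposite TopologicalSpace

namespace K775.Final

open Groth.Agent K775.Setup K775.Cd

variable {X : Scheme.{u}}

theorem Ded.restrict (h : Ded X) (V : X.Opens) (hV : Nonempty (V : Scheme.{u})) : Ded (V : Scheme.{u}) := by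
  have := h.noeth
  have := h.int
  have hln : IsLocallyNoetherian (V : Scheme.{u}) := isLocallyNoetherian_of_isOpenImmersion V.ι
  have hcs : CompactSpace (V : Scheme.{u}) :=
    isCompact_iff_compactSpace.1 (NoetherianSpace.isCompact (V : Set X))
  refine ⟨{ }, inferInstance, fun x => ?_, fun x => ?_, fun n hn => ?_⟩
  · have := h.norm (V.ι x)
    exact IsIntegrallyClosed.of_equiv (asIso (V.ι.stalkMap x)).commRingCatIsoToRingEquiv
  · rw [← ringKrullDim_eq_of_ringEquiv (asIso (V.ι.stalkMap x)).commRingCatIsoToRingEquiv]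
    exact h.dim _
  · exact K775.PushGm.invertibleOn_of_openImmersion V.ι n (h.char0 n hn)

theorem cohDimLE_residueField (V : X.Opens) (x : (V : Scheme.{u})) (d : ℕ)
    (h : EtCoh.CohDimLE (Spec (X.residueField (V.ι x))) d) :
    EtCoh.CohDimLE (Spec ((V : Scheme.{u}).residueField x)) d :=
  EtpbcA.CdExact.cohDimLE_of_iso (Scheme.Spec.mapIso (asIso (V.ι.residueFieldMap x)).op).symm d h

theorem HL.restrict (h : HL X) (V : X.Opens) (hV : Nonempty (V : Scheme.{u})) : HL (V : Scheme.{u}) where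
  ded := Ded.restrict h.ded V hV
  cdK x := cohDimLE_residueField V x 2 (h.cdK _)
  cdv x := fun ⟨y, hy, hyx⟩ => cohDimLE_residueField V x 1
    (h.cdv _ ⟨V.ι y, hy.map V.ι.continuous, fun he => hyx (V.ι.isOpenEmbedding.injective he)⟩)

/-- `Ext^r(F', G_m) = 0`, `r ≥ 4`, for `F'` constructible with support in a closed subset `Z ≠ X`. -/
theorem subsingleton_supp (h : HL X) (F : EtCoh.Ab X) (hF : EtPBC.IsConstructible F) (Z : Set X)
    (hZ : IsClosed Z) (hZU : Z ≠ Set.univ) (hsupp : EtPBC.supp F ⊆ Z) (r : ℕ) (hr : 4 ≤ r) :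
    Subsingleton (Ext.{u + 1} F (EtCoh.Gm X) r) := by
  obtain ⟨r, rfl⟩ : ∃ t, r = t + 1 := ⟨r - 1, by omega⟩
  obtain ⟨e⟩ := (K775.Supp.main h.ded F Z hZ hZU hsupp).2 r
  have : ∀ v : Z, Subsingleton (Ext.{u + 1} ((EtCoh.pull (X.fromSpecResidueField (v : X))).obj F)
      (EtCoh.const (Spec (X.residueField (v : X))) ℤ) r) := fun v =>
    K775.Flc.subsingleton_field (X.residueField v.1)
      (h.cdv v.1 (K775.Supp.exists_generization h.ded Z hZ hZU v.1 v.2)) _
      (S0127.result (X.fromSpecResidueField v.1) F hF) r (by omega)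
  exact e.toEquiv.subsingleton

/-- `Ext^r(F, G_m) = 0`, `r ≥ 4`, for `F` constructible. -/
theorem main (h : HL X) (F : EtCoh.Ab X) (hF : EtPBC.IsConstructible F) (r : ℕ) (hr : 4 ≤ r) :
    Subsingleton (Ext.{u + 1} F (EtCoh.Gm X) r) := by
  have hno := h.ded.noeth
  have hint := h.ded.int
  obtain ⟨n, hn, hk⟩ := EtpbcA.Compact2.exists_killedBy hF
  obtain ⟨V, hηV, hflc⟩ := Sga4h.GenULAFlc.exists_flc_open F hF (genericPoint X)
    (fun y hy => (hy.antisymm (genericPoint_specializes y)).eq)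
  have hVne : Nonempty (V : Scheme.{u}) := ⟨⟨genericPoint X, hηV⟩⟩
  have hV := HL.restrict h V hVne
  have hVno := hV.ded.noeth
  have hjc := Sga4h.EtaleRes.jCont V.ι
  let Z : Closeds X := ⟨(V : Set X)ᶜ, V.2.isClosed_compl⟩
  let I := Scheme.IdealSheafData.vanishingIdeal Z
  let i := I.subschemeι
  have hr' : Set.range i = (V : Set X)ᶜ := by
    rw [Scheme.IdealSheafData.range_subschemeι, Scheme.IdealSheafData.coe_support_vanishingIdeal]
    rfl
  have hrV : Set.range V.ι = (V : Set X) := Scheme.Opens.range_ι V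
  have hd : IsCompl (Set.range i) (Set.range V.ι) := by
    rw [hr', hrV]
    exact isCompl_compl.symm
  have hS := Etcore.OpenClosed.shortExact i V.ι hd F
  -- the open part
  have h1 : Subsingleton (Ext.{u + 1} ((EtShriek.extZero V.ι).obj ((EtShriek.restrAlong V.ι).obj F))
      (EtCoh.Gm X) r) := by
    obtain ⟨e⟩ := K775.ExtShriek.nonempty_extZero V.ι ((EtShriek.restrAlong V.ι).obj F) (EtCoh.Gm X) r
    let i₀ : (EtCoh.pull V.ι).obj F ≅ (EtShriek.restrAlong V.ι).obj F := (Sga4h.EtaleRes.pullIsoRestr V.ι).app F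
    have h2 : Subsingleton (Ext.{u + 1} ((EtCoh.pull V.ι).obj F) ((EtCoh.pull V.ι).obj (EtCoh.Gm X)) r) :=
      K775.Flc.subsingleton_flc_div (K775.Hyp.cohDimLE hV) _
        (fun ℓ hℓ => K775.PushGm.epi_nsmul_pull V.ι (EtCoh.Gm X) ℓ
          (K775.PushGm.epi_nsmul_Gm h.ded.char0 ℓ hℓ.pos)) n hn.ne' _ hflc
        (Etcore.PrimeFilt.killedBy_pull V.ι n F hk) r hr
    exact (e.trans (K775.Supp.extPre i₀ _ r)).toEquiv.subsingleton
  -- the closed part
  have hepi : Epi ((EtCoh.pullPushAdj i).unit.app F) := hS.epi_g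
  have hc3 : EtPBC.IsConstructible ((EtCoh.push i).obj ((EtCoh.pull i).obj F)) :=
    Groth.Agent.S0141.result X ((EtCoh.pullPushAdj i).unit.app F) n hn hk hF
  have h3 : Subsingleton (Ext.{u + 1} ((EtCoh.push i).obj ((EtCoh.pull i).obj F)) (EtCoh.Gm X) r) := by
    refine subsingleton_supp h _ hc3 ((V : Set X)ᶜ) V.2.isClosed_compl (fun he => ?_) (fun x hx => ?_) r hr
    · have : genericPoint X ∈ (V : Set X)ᶜ := by rw [he]; trivial
      exact this hηV
    · by_contra hxV
      rw [Set.mem_compl_iff, not_not] at hxV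
      obtain ⟨Ω, _, _, ξ, hξ, hz⟩ := hx
      refine hz (Etcore.OpenClosed.isZero_stalk_push i V.ι hd.disjoint ξ ?_ _)
      rw [hrV]
      have : ξ default ∈ Set.range ξ := ⟨default, rfl⟩
      rw [hξ] at this
      rw [Set.mem_singleton_iff.1 this]
      exact hxV
  refine subsingleton_of_forall_eq 0 fun x => ?_
  obtain ⟨y, hy⟩ := Ext.contravariant_sequence_exact₂ hS (EtCoh.Gm X) x (h1.elim _ _)
  have hy0 : y = 0 := h3.elim _ _
  rw [← hy, hy0, Ext.comp_zero]

end K775.Final
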