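import Groth.Agent.HLoc2.K775.Cd
import Groth.Agent.HLoc2.K775.Tors

/-!
# The hypotheses of the statements imply `HL`; consequences
-/

set_option autoImplicit false
universe u
open CategoryTheory CategoryTheory.Limits AlgebraicGeometry Opposite TopologicalSpace

namespace K775.Hyp

open K775.Setup K775.Cd

theorem isTorsion_of_killedBy {X : Scheme.{u}} {m : ℕ} (hm : m ≠ 0) {F : EtCoh.Ab X} (h : EtCoh.KilledBy m F) :
    EtCoh.IsTorsion F := fun U s x =>
  ⟨U, 𝟙 U, ⟨x, rfl⟩, isOfFinAddOrder_iff_nsmul_eq_zero.2 ⟨m, Nat.pos_of_ne_zero hm, h U _⟩⟩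

theorem cohDimLE_mono {X : Scheme.{u}} {a b : ℕ} (hab : a ≤ b) (h : EtCoh.CohDimLE X a) : EtCoh.CohDimLE X b :=
  fun F hF q hq => h F hF q (by omega)

theorem cohDimLE {X : Scheme.{u}} (h : HL X) : EtCoh.CohDimLE X 3 := by
  have := h.ded.noeth
  exact K775.Tors.cohDimLE_of_primes (fun ℓ hℓ => cohDimLEAt h hℓ)

theorem bijective_residue (X : Scheme.{u}) [IsIntegral X] :
    Function.Bijective (X.residue (genericPoint X)).hom := by
  refine ⟨?_, IsLocalRing.residue_surjective⟩
  let _ : Field (X.presheaf.stalk (genericPoint X)) := (inferInstance : Field X.functionField)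
  exact (X.residue (genericPoint X)).hom.injective

theorem nonempty_stalk_equiv (O : Type u) [CommRing O] [IsDomain O] (K : Type u) [Field K] [Algebra O K]
    [IsFractionRing O K] (y : Spec (CommRingCat.of O)) (hx : y.asIdeal = ⊥) :
    Nonempty (K ≃+* (Spec (CommRingCat.of O)).presheaf.stalk y) := by
  let _ : Algebra O ((Spec (CommRingCat.of O)).presheaf.stalk y) := StructureSheaf.stalkAlgebra O y
  have hloc : IsLocalization.AtPrime ((Spec (CommRingCat.of O)).presheaf.stalk y) y.asIdeal :=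
    StructureSheaf.IsLocalization.to_stalk O y
  have hc : y.asIdeal.primeCompl = nonZeroDivisors O := by
    ext a
    rw [mem_nonZeroDivisors_iff_ne_zero, Ideal.mem_primeCompl_iff, hx, Ideal.mem_bot]
  have hfr : IsLocalization (nonZeroDivisors O) ((Spec (CommRingCat.of O)).presheaf.stalk y) := by
    rw [← hc]; exact hloc
  exact ⟨(IsLocalization.algEquiv (nonZeroDivisors O) K
    ((Spec (CommRingCat.of O)).presheaf.stalk y)).toRingEquiv⟩

/-- The residue field at the generic point of an open subscheme of an affine integral scheme. -/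
theorem nonempty_equiv (O : Type u) [CommRing O] [IsDomain O] (K : Type u) [Field K] [Algebra O K]
    [IsFractionRing O K] (U : (Spec (CommRingCat.of O)).Opens) [IsIntegral (U : Scheme.{u})] :
    Nonempty (K ≃+* (U : Scheme.{u}).residueField (genericPoint (U : Scheme.{u}))) := by
  have hx : (U.ι (genericPoint (U : Scheme.{u}))).asIdeal = ⊥ := by
    rw [genericPoint_eq_of_isOpenImmersion U.ι, genericPoint_eq_bot_of_affine]
    rfl
  obtain ⟨e1⟩ := nonempty_stalk_equiv O K (U.ι (genericPoint (U : Scheme.{u}))) hx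
  exact ⟨(e1.trans (asIso (U.ι.stalkMap (genericPoint (U : Scheme.{u})))).commRingCatIsoToRingEquiv).trans
    (RingEquiv.ofBijective _ (bijective_residue (U : Scheme.{u})))⟩

section

variable (k : Type u) [Field k] [CharZero k]
    (R₀ : Type u) [CommRing R₀] [IsDomain R₀] [Algebra k R₀]
    [IsIntegrallyClosed R₀] (hexc : EGA4.IsExcellent R₀) (hdim : ringKrullDim R₀ = 2)
    (K : Type u) [Field K] [Algebra R₀ K] [Algebra (FractionRing R₀) K]
    [IsScalarTower R₀ (FractionRing R₀) K] [FiniteDimensional (FractionRing R₀) K]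
    (U : (Spec (CommRingCat.of ↥(integralClosure R₀ K))).Opens)
    (hU : ∀ x : ↥(Spec (CommRingCat.of ↥(integralClosure R₀ K))), x ∈ U →
      ¬ IsClosed ({x} : Set ↥(Spec (CommRingCat.of ↥(integralClosure R₀ K)))))
    (hne : Nonempty ↥(↑U : Scheme.{u}))
    (hcdK : EtCoh.CohDimLE (Spec (CommRingCat.of K)) 2)
    (hcdv : ∀ x : ↥(↑U : Scheme.{u}), IsClosed ({x} : Set ↥(↑U : Scheme.{u})) →
      EtCoh.CohDimLE (Spec ((↑U : Scheme.{u}).residueField x)) 1)

include k hexc hdim hU hne hcdK hcdv in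
theorem hl : HL (↑U : Scheme.{u}) := by
  have hd := ded k R₀ hexc hdim K U hU hne
  have := hd.int
  have := isFractionRing_O R₀ K
  have hv : ∀ x : ↥(↑U : Scheme.{u}), x ≠ genericPoint (↑U : Scheme.{u}) →
      EtCoh.CohDimLE (Spec ((↑U : Scheme.{u}).residueField x)) 1 := fun x hx =>
    hcdv x (isClosed_singleton hd hx)
  obtain ⟨e⟩ := nonempty_equiv (integralClosure R₀ K) K U
  have hη : EtCoh.CohDimLE (Spec ((↑U : Scheme.{u}).residueField (genericPoint (↑U : Scheme.{u})))) 2 :=
    Groth.Agent.EtpbcA.CdExact.cohDimLE_of_iso (Scheme.Spec.mapIso e.toCommRingCatIso.op).symm 2 hcdK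
  refine ⟨hd, fun x => ?_, fun x ⟨y, hy, hyx⟩ => hv x fun hx => ?_⟩
  · by_cases hx : x = genericPoint (↑U : Scheme.{u})
    · rw [hx]; exact hη
    · exact cohDimLE_mono one_le_two (hv x hx)
  · subst hx
    exact hyx (hy.antisymm (genericPoint_specializes y)).eq

end

end K775.Hyp
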