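import Groth.Agent.HLoc2.K775.FieldDiv
import Groth.Agent.HLoc2.K775.Cd
import Groth.Agent.Sga4h.X144LocCore
import Groth.Agent.Sga4h.FinRedOC
import Groth.Agent.Sga4h.GmP2
import Groth.Agent.S0108

/-!
# `R^q j_* G_m = 0`, `q ≥ 1`, for dense open immersions into `Ded` schemes
-/

set_option autoImplicit false
universe u
open CategoryTheory CategoryTheory.Limits CategoryTheory.Abelian AlgebraicGeometry Opposite TopologicalSpace

namespace K775.PushGm

open K775.Setup Groth.Agent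

theorem epi_nsmul_pull {X Y : Scheme.{u}} (f : X ⟶ Y) (A : EtCoh.Ab Y) (n : ℕ) (h : Epi (n • 𝟙 A)) :
    Epi (n • 𝟙 ((EtCoh.pull f).obj A)) := by
  have h1 : (EtCoh.pull f).map (n • 𝟙 A) = n • 𝟙 ((EtCoh.pull f).obj A) := by
    rw [Functor.map_nsmul, CategoryTheory.Functor.map_id]
  rw [← h1]
  infer_instance

/-- Divisible sheaves, degrees at least two. -/
theorem isZero_Rpush_div {S U : Scheme.{u}} (h : Ded S) (j : U ⟶ S) [IsOpenImmersion j]
    (hU : Dense (Set.range j.base)) (A : EtCoh.Ab U) (hA : ∀ ℓ : ℕ, ℓ.Prime → Epi (ℓ • 𝟙 A)) (q : ℕ) (hq : 2 ≤ q) :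
    IsZero ((EtCoh.Rpush j q).obj A) := by
  have := h.noeth
  have := h.int
  have hqc : QuasiCompact j := inferInstance
  refine Etcore.Stalks.isZero_of_stalks _ fun z => ?_
  by_cases hz : z ∈ Set.range j.base
  · obtain ⟨y, rfl⟩ := hz
    obtain ⟨Ω, _, _, ζ, hζ⟩ := Etcore.Stalks.exists_geom y
    refine ⟨Ω, inferInstance, inferInstance, ζ ≫ j, ?_, ?_⟩
    · rw [Scheme.Hom.comp_apply, hζ]
    · obtain ⟨q, rfl⟩ : ∃ r, q = r + 1 := ⟨q - 1, by omega⟩
      have h1 := Sga4h.FinRed.isZero_pull_Rpush j A q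
      exact ((EtCoh.stalk ζ).map_isZero h1).of_iso
        ((Etbase.StalkPull.stalkPullIso j ζ).app ((EtCoh.Rpush j (q + 1)).obj A))
  · obtain ⟨R, _, _, _, _, hSH, -⟩ :=
      Groth.Agent.Hensel.Exist.exists_isStrictHenselization (S.presheaf.stalk z)
    have hsep : IsSepClosed (IsLocalRing.ResidueField R) := hSH.isSepClosure.sep_closed
    obtain ⟨hdom, hdvr, hsh, hK⟩ := Sga4h.X144Geo1.geo1 h.reg h.dim j hU z hz R
    obtain ⟨e⟩ := hK (FractionRing R)
    refine ⟨IsLocalRing.ResidueField R, inferInstance, hsep, Hens2.geomPt S z R,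
      Sga4h.X144LocCore.geomPt_apply z R _, ?_⟩
    let A₁ := (EtCoh.pull (pullback.fst j (Hens2.specOf S z R))).obj A
    let A₂ : EtCoh.Ab (Spec (.of (FractionRing R))) := (EtCoh.pull e.inv).obj A₁
    have hN : ∀ ℓ : ℕ, ℓ.Prime → Epi (ℓ • 𝟙 A₂) := fun ℓ hℓ =>
      epi_nsmul_pull _ _ _ (epi_nsmul_pull _ _ _ (hA ℓ hℓ))
    obtain ⟨e1⟩ := Groth.Agent.S0620.result j A z R q
    have E := e1.addCommGroupIsoToAddEquiv.trans (Etrest.IsoInv.HIso e.inv A₁ q)
    have h1 : Subsingleton (EtCoh.H (Spec (.of (FractionRing R))) A₂ q) := by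
      refine K775.FieldDiv.subsingleton_H_of_div (FractionRing R) A₂ hN (fun ℓ hℓ => ?_) q hq
      refine Groth.Agent.Etbc.H208.CdUpper.cohDimLEAt_one R (FractionRing R) hsh hℓ ?_
      have h1 := (K775.Cd.isUnit_natCast h z hℓ.pos).map (algebraMap (S.presheaf.stalk z) R)
      rwa [map_natCast] at h1
    have h2 := E.toEquiv.subsingleton
    exact AddCommGrpCat.isZero_of_subsingleton _

theorem epi_nsmul_Gm {U : Scheme.{u}} (hU : ∀ n : ℕ, 0 < n → Dix.InvertibleOn U n) (n : ℕ) (hn : 0 < n) :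
    Epi (n • 𝟙 (EtCoh.Gm U)) :=
  Groth.Agent.S0108.result U n (Groth.Agent.Dix.Invertible.isUnit_of_invertibleOn U n (hU n hn))

theorem invertibleOn_of_openImmersion {S U : Scheme.{u}} (j : U ⟶ S) [IsOpenImmersion j] (n : ℕ)
    (h : Dix.InvertibleOn S n) : Dix.InvertibleOn U n := by
  intro x hx
  refine h (j x) ?_
  have h1 : Function.Injective (j.residueFieldMap x).hom := (j.residueFieldMap x).hom.injective
  apply h1
  rw [map_natCast, map_zero]
  exact hx

/-- `R^q j_* G_m = 0` for `q ≥ 1`. -/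
theorem isZero_Rpush_Gm {S U : Scheme.{u}} (h : Ded S) (j : U ⟶ S) [IsOpenImmersion j]
    (hU : Dense (Set.range j.base)) (q : ℕ) : IsZero ((EtCoh.Rpush j (q + 1)).obj (EtCoh.Gm U)) := by
  have := h.noeth
  rcases q with - | q
  · exact Sga4h.GmP2.isZero_Rpush_one_Gm h.reg j
  · exact isZero_Rpush_div h j hU _ (fun ℓ hℓ => epi_nsmul_Gm
      (fun n hn => invertibleOn_of_openImmersion j n (h.char0 n hn)) ℓ hℓ.pos) _ (by omega)

end K775.PushGm
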