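import Groth.Agent.Lefpen.H717.ConstRed
import Groth.Agent.Dix.ExtSeq
import Groth.Agent.Sga5.EtKilled
import Groth.Agent.HLoc2.K775.Tors
import Mathlib.Algebra.Homology.DerivedCategory.Ext.ExactSequences

/-!
# `Ext^s(ℤ/ℓ, A)` from the multiplication by `ℓ` on the cohomology of `A`
-/

set_option autoImplicit false
universe w v u
open CategoryTheory CategoryTheory.Limits CategoryTheory.Abelian AlgebraicGeometry Opposite TopologicalSpace

namespace K775.ZModExt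

open Groth.Agent

variable {X : Scheme.{u}}

theorem mk₀_nsmul_id_comp {C : Type u} [Category.{v} C] [Abelian C] [HasExt.{w} C] {A Y : C} {i : ℕ}
    (ξ : Ext A Y i) (n : ℕ) : (Ext.mk₀ (n • 𝟙 A)).comp ξ (zero_add i) = n • ξ := by
  induction n with
  | zero => simp
  | succ n ih => rw [succ_nsmul, Ext.mk₀_add, Ext.add_comp, ih, Ext.mk₀_id_comp, succ_nsmul]

/-- `Ext^s(ℤ/ℓ, A) = 0` if `ℓ` is injective on `H^s` and surjective on `H^{s-1}`. -/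
theorem subsingleton_ext_zmod (ℓ : ℕ) (hℓ : 0 < ℓ) (A : EtCoh.Ab X) (s : ℕ)
    (hinj : ∀ x : EtCoh.H X A (s + 1), ℓ • x = 0 → x = 0)
    (hsurj : ∀ x : EtCoh.H X A s, ∃ y : EtCoh.H X A s, ℓ • y = x) :
    Subsingleton (Ext.{u + 1} (EtCoh.const X (ZMod ℓ)) A (s + 1)) := by
  obtain ⟨w, hS⟩ := Lefpen.H717.ConstRed.const_shortExact X ℓ hℓ
  refine subsingleton_of_forall_eq 0 fun x => ?_
  have h1 : (Ext.mk₀ (Lefpen.H717.ConstRed.zq X ℓ)).comp x (zero_add (s + 1)) = 0 := by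
    refine hinj _ ?_
    have h2 : (Ext.mk₀ (ℓ • 𝟙 (EtCoh.const X ℤ))).comp
        ((Ext.mk₀ (Lefpen.H717.ConstRed.zq X ℓ)).comp x (zero_add (s + 1))) (zero_add (s + 1)) = 0 := by
      rw [Ext.mk₀_comp_mk₀_assoc, w, Ext.mk₀_zero, Ext.zero_comp]
    rw [mk₀_nsmul_id_comp] at h2
    exact h2
  obtain ⟨y, hy⟩ := Ext.contravariant_sequence_exact₃ hS A x h1 (n₀ := s) (by omega)
  obtain ⟨z, hz⟩ := hsurj y
  rw [← hy, ← hz]
  have h3 : ℓ • (show Ext.{u + 1} (EtCoh.const X ℤ) A s from z) =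
      (Ext.mk₀ (ℓ • 𝟙 (EtCoh.const X ℤ))).comp z (zero_add s) := (mk₀_nsmul_id_comp _ _).symm
  change hS.extClass.comp (ℓ • (show Ext.{u + 1} (EtCoh.const X ℤ) A s from z)) _ = 0
  rw [h3]
  exact hS.extClass_comp_assoc _

/-- The case of an epimorphism `ℓ : A → A`. -/
theorem subsingleton_of_epi (ℓ : ℕ) (hℓ : 0 < ℓ) (A : EtCoh.Ab X) (s : ℕ) [Epi (ℓ • 𝟙 A)]
    (h : ∀ G : EtCoh.Ab X, EtCoh.KilledBy ℓ G → Subsingleton (EtCoh.H X G (s + 1))) :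
    Subsingleton (Ext.{u + 1} (EtCoh.const X (ZMod ℓ)) A (s + 1)) := by
  have hk : EtCoh.KilledBy ℓ (kernel (ℓ • 𝟙 A)) := by
    rw [Sga5.EtKilled.killedBy_iff, ← cancel_mono (kernel.ι (ℓ • 𝟙 A)), zero_comp, Preadditive.nsmul_comp,
      Category.id_comp]
    have h1 := kernel.condition (ℓ • 𝟙 A)
    rw [Preadditive.comp_nsmul, Category.comp_id] at h1
    exact h1
  have h0 := h _ hk
  let S : ShortComplex (EtCoh.Ab X) := ShortComplex.mk (kernel.ι (ℓ • 𝟙 A)) (ℓ • 𝟙 A) (kernel.condition _)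
  have hS : S.ShortExact :=
    { exact := ShortComplex.exact_kernel _
      mono_f := inferInstanceAs (Mono (kernel.ι _))
      epi_g := inferInstanceAs (Epi (ℓ • 𝟙 A)) }
  refine subsingleton_ext_zmod ℓ hℓ A s (fun x hx => ?_) (fun x => ?_)
  · have h2 : Ext.comp x (Ext.mk₀ (ℓ • 𝟙 A)) (add_zero (s + 1)) = 0 :=
      (Dix.ExtSeq.comp_mk₀_nsmul_id (Y := A) x ℓ).trans hx
    obtain ⟨η, hη⟩ := Ext.covariant_sequence_exact₂ _ hS x h2
    have h5 : η = 0 := h0.elim _ _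
    rw [← hη, h5, Ext.zero_comp]
  · obtain ⟨y, hy⟩ := Ext.covariant_sequence_exact₃ _ hS x rfl (h0.elim _ _)
    refine ⟨y, ?_⟩
    rw [← hy]
    exact (Dix.ExtSeq.comp_mk₀_nsmul_id (Y := A) y ℓ).symm

/-- The case of a monomorphism `ℓ : A → A`. -/
theorem subsingleton_of_mono (ℓ : ℕ) (hℓ : 0 < ℓ) (A : EtCoh.Ab X) (s : ℕ) [Mono (ℓ • 𝟙 A)]
    (h : ∀ G : EtCoh.Ab X, EtCoh.KilledBy ℓ G → Subsingleton (EtCoh.H X G s)) :
    Subsingleton (Ext.{u + 1} (EtCoh.const X (ZMod ℓ)) A (s + 1)) := by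
  have hk : EtCoh.KilledBy ℓ (cokernel (ℓ • 𝟙 A)) := by
    rw [Sga5.EtKilled.killedBy_iff, ← cancel_epi (cokernel.π (ℓ • 𝟙 A)), comp_zero, Preadditive.comp_nsmul,
      Category.comp_id]
    have h1 := cokernel.condition (ℓ • 𝟙 A)
    rw [Preadditive.nsmul_comp, Category.id_comp] at h1
    exact h1
  have h0 := h _ hk
  let S : ShortComplex (EtCoh.Ab X) := ShortComplex.mk (ℓ • 𝟙 A) (cokernel.π (ℓ • 𝟙 A)) (cokernel.condition _)
  have hS : S.ShortExact :=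
    { exact := ShortComplex.exact_cokernel _
      mono_f := inferInstanceAs (Mono (ℓ • 𝟙 A))
      epi_g := inferInstanceAs (Epi (cokernel.π _)) }
  refine subsingleton_ext_zmod ℓ hℓ A s (fun x hx => ?_) (fun x => ?_)
  · have h2 : Ext.comp x (Ext.mk₀ (ℓ • 𝟙 A)) (add_zero (s + 1)) = 0 :=
      (Dix.ExtSeq.comp_mk₀_nsmul_id (Y := A) x ℓ).trans hx
    obtain ⟨η, hη⟩ := Ext.covariant_sequence_exact₁ _ hS x h2 rfl
    have h5 : η = 0 := h0.elim _ _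
    rw [← hη, h5, Ext.zero_comp]
  · obtain ⟨y, hy⟩ := Ext.covariant_sequence_exact₂ _ hS x (h0.elim _ _)
    refine ⟨y, ?_⟩
    rw [← hy]
    exact (Dix.ExtSeq.comp_mk₀_nsmul_id (Y := A) y ℓ).symm

end K775.ZModExt
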