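import Groth.Agent.HLoc2.K775.ExtShriek
import Groth.Agent.HLoc2.K775.ZModExt
import Groth.Agent.HLoc2.K775.Hyp
import Groth.Agent.HLoc2.K775.PushGm
import Groth.Agent.Sga4h.PrimeDevN219
import Groth.Agent.Sga4h.GenULAFlc
import Groth.Agent.Etrest.FLCLocal
import Groth.Agent.Etdl.H997.FCD
import Groth.Agent.EtpbcA.Compact2

/-!
# `Ext(F, G_m)` and `Ext(F, ℤ)` for finite locally constant sheaves
-/

set_option autoImplicit false
universe w v u
open CategoryTheory CategoryTheory.Limits CategoryTheory.Abelian AlgebraicGeometry Opposite TopologicalSpace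

namespace K775.Flc

open Groth.Agent K775.Setup K775.Cd

variable {X : Scheme.{u}}

/-- Vanishing of `Ext^s(-, A)` for `s ≥ s₀` is stable under retracts and extensions. -/
theorem cl (A : EtCoh.Ab X) (s₀ : ℕ) :
    Sga4h.PrimeDev219.Cl (fun F : EtCoh.Ab X => ∀ s, s₀ ≤ s → Subsingleton (Ext.{u + 1} F A s)) where
  retract {F G} i r hir hG s hs := by
    refine subsingleton_of_forall_eq 0 fun x => ?_
    have h1 : (Ext.mk₀ r).comp x (zero_add s) = 0 := (hG s hs).elim _ _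
    have h2 : (Ext.mk₀ i).comp ((Ext.mk₀ r).comp x (zero_add s)) (zero_add s) = x := by
      rw [Ext.mk₀_comp_mk₀_assoc, hir, Ext.mk₀_id_comp]
    rw [← h2, h1, Ext.comp_zero]
  ext {S} hS h1 h3 s hs := by
    have h1s := h1 s hs
    have h3s := h3 s hs
    refine subsingleton_of_forall_eq 0 fun x => ?_
    obtain ⟨y, hy⟩ := Ext.contravariant_sequence_exact₂ hS A x (h1s.elim _ _)
    have hy0 : y = 0 := h3s.elim _ _
    rw [← hy, hy0, Ext.comp_zero]

theorem subsingleton_flc [IsNoetherian X] (A : EtCoh.Ab X) (s₀ n : ℕ) (hn : n ≠ 0)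
    (hb : ∀ ℓ : ℕ, ℓ.Prime → ∀ (T : Scheme.{u}) (ρ : T ⟶ X) [IsFinite ρ] [Etale ρ] (s : ℕ), s₀ ≤ s →
      Subsingleton (Ext.{u + 1} (EtCoh.const T (ZMod ℓ)) ((EtCoh.pull ρ).obj A) s))
    (F : EtCoh.Ab X) (hF : EtCoh.IsFiniteLocallyConstant F) (hk : EtCoh.KilledBy n F) (s : ℕ) (hs : s₀ ≤ s) :
    Subsingleton (Ext.{u + 1} F A s) := by
  refine Sga4h.PrimeDevN219.of_killed n hn (cl A s₀) (fun G hG s _ => ?_) (fun ℓ hℓ _ T ρ _ _ s hs => ?_) F hF hk s hs
  · refine subsingleton_of_forall_eq 0 fun x => ?_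
    have h1 : (Ext.mk₀ (𝟙 G)).comp x (zero_add s) = 0 := by
      rw [(IsZero.iff_id_eq_zero G).1 hG, Ext.mk₀_zero, Ext.zero_comp]
    rwa [Ext.mk₀_id_comp] at h1
  · exact K775.ExtShriek.subsingleton_push ρ _ A s (hb ℓ hℓ T ρ s hs)

/-- `Ext^s(F, A) = 0` for `s ≥ 4`, `F` finite locally constant, `A` divisible, on a scheme of cohomological
dimension at most three. -/
theorem subsingleton_flc_div [IsNoetherian X] (hcd3 : EtCoh.CohDimLE X 3) (A : EtCoh.Ab X)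
    (hA : ∀ ℓ : ℕ, ℓ.Prime → Epi (ℓ • 𝟙 A)) (n : ℕ) (hn : n ≠ 0) (F : EtCoh.Ab X)
    (hF : EtCoh.IsFiniteLocallyConstant F) (hk : EtCoh.KilledBy n F) (s : ℕ) (hs : 4 ≤ s) :
    Subsingleton (Ext.{u + 1} F A s) := by
  refine subsingleton_flc A 4 n hn (fun ℓ hℓ T ρ _ _ s hs => ?_) F hF hk s hs
  obtain ⟨s, rfl⟩ : ∃ t, s = t + 1 := ⟨s - 1, by omega⟩
  have hcd := Etdl.H997.FCD.cohDimLE_of_isFinite ρ 3 hcd3
  have := K775.PushGm.epi_nsmul_pull ρ A ℓ (hA ℓ hℓ)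
  exact K775.ZModExt.subsingleton_of_epi ℓ hℓ.pos _ s
    (fun G hG => hcd G (K775.Hyp.isTorsion_of_killedBy hℓ.ne_zero hG) _ (by omega))

theorem mono_nsmul_pull {Y : Scheme.{u}} (f : Y ⟶ X) (A : EtCoh.Ab X) (n : ℕ) (h : Mono (n • 𝟙 A)) :
    Mono (n • 𝟙 ((EtCoh.pull f).obj A)) := by
  have := Groth.Agent.S0101.result f
  have h1 : (EtCoh.pull f).map (n • 𝟙 A) = n • 𝟙 ((EtCoh.pull f).obj A) := by
    rw [Functor.map_nsmul, CategoryTheory.Functor.map_id]
  rw [← h1]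
  infer_instance

/-- `Ext^s(F, ℤ) = 0` for `s ≥ 3`, `F` finite locally constant, on a scheme of cohomological dimension at most one. -/
theorem subsingleton_flc_int [IsNoetherian X] (h : EtCoh.CohDimLE X 1) (n : ℕ) (hn : n ≠ 0) (F : EtCoh.Ab X)
    (hF : EtCoh.IsFiniteLocallyConstant F) (hk : EtCoh.KilledBy n F) (s : ℕ) (hs : 3 ≤ s) :
    Subsingleton (Ext.{u + 1} F (EtCoh.const X ℤ) s) := by
  refine subsingleton_flc (EtCoh.const X ℤ) 3 n hn (fun ℓ hℓ T ρ _ _ s hs => ?_) F hF hk s hs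
  obtain ⟨s, rfl⟩ : ∃ t, s = t + 1 := ⟨s - 1, by omega⟩
  have hcd := Etdl.H997.FCD.cohDimLE_of_isFinite ρ 1 h
  obtain ⟨w, hS⟩ := Lefpen.H717.ConstRed.const_shortExact X ℓ hℓ.pos
  have := mono_nsmul_pull ρ (EtCoh.const X ℤ) ℓ hS.mono_f
  exact K775.ZModExt.subsingleton_of_mono ℓ hℓ.pos _ s
    (fun G hG => hcd G (K775.Hyp.isTorsion_of_killedBy hℓ.ne_zero hG) _ (by omega))

/-- Constructible sheaves on the spectrum of a field are finite locally constant. -/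
theorem isFLC_field (K : Type u) [Field K] (F : EtCoh.Ab (Spec (CommRingCat.of K))) (hF : EtPBC.IsConstructible F) :
    EtCoh.IsFiniteLocallyConstant F := by
  have hK : Unique (Spec (CommRingCat.of K)) := inferInstanceAs (Unique (PrimeSpectrum K))
  refine Etrest.FLCLocal.isFLC_of_local_opens F fun x => ?_
  exact Sga4h.GenULAFlc.exists_flc_open F hF x fun y _ => (hK.uniq y).trans (hK.uniq x).symm

/-- `Ext^s(F, ℤ) = 0` for `s ≥ 3` over a field of cohomological dimension at most one. -/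
theorem subsingleton_field (K : Type u) [Field K] (h : EtCoh.CohDimLE (Spec (CommRingCat.of K)) 1)
    (F : EtCoh.Ab (Spec (CommRingCat.of K))) (hF : EtPBC.IsConstructible F) (s : ℕ) (hs : 3 ≤ s) :
    Subsingleton (Ext.{u + 1} F (EtCoh.const (Spec (CommRingCat.of K)) ℤ) s) := by
  obtain ⟨n, hn, hk⟩ := EtpbcA.Compact2.exists_killedBy hF
  exact subsingleton_flc_int h n hn.ne' F (isFLC_field K F hF) hk s hs

end K775.Flc
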