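import Groth.Agent.HLoc2.K775.Hyp
import Groth.Agent.HLoc2.K775.Dim
import Groth.Agent.S3242
import Groth.Agent.S3244

/-!
# `H^r(X, G_m) = 0` for `r ≥ 4`
-/

set_option autoImplicit false
universe u
open CategoryTheory CategoryTheory.Limits CategoryTheory.Abelian AlgebraicGeometry Opposite TopologicalSpace

namespace K775.GmVan

open K775.Setup K775.Cd

theorem killedBy_kernel {X : Scheme.{u}} (B : EtCoh.Ab X) (n : ℕ) : EtCoh.KilledBy n (kernel (n • 𝟙 B)) := by
  rw [Groth.Agent.Sga5.EtKilled.killedBy_iff, ← cancel_mono (kernel.ι (n • 𝟙 B)), zero_comp,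
    Preadditive.nsmul_comp]
  have h1 := kernel.condition (n • 𝟙 B)
  simpa [Preadditive.comp_nsmul] using h1

theorem killedBy_mu (X : Scheme.{u}) (n : ℕ) : EtCoh.KilledBy n (EtCoh.mu X n) := killedBy_kernel (EtCoh.Gm X) n

theorem subsingleton_H_Gm {X : Scheme.{u}} (h : HL X) (r : ℕ) (hr : 4 ≤ r) :
    Subsingleton (EtCoh.H X (EtCoh.Gm X) r) := by
  have := h.ded.noeth
  have := h.ded.int
  refine subsingleton_of_forall_eq 0 fun x => ?_
  obtain ⟨n, hn, hx⟩ := isOfFinAddOrder_iff_nsmul_eq_zero.1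
    (Groth.Agent.S3242.result X (K775.Dim.topologicalKrullDim_le_one h.ded) r (by omega) x)
  have h1 := Groth.Agent.S3244.result X n hn (h.ded.char0 n hn) r (by omega)
  have h2 : x ∈ {ξ : (EtCoh.HF X r).obj (EtCoh.Gm X) | n • ξ = 0} := hx
  rw [← h1] at h2
  obtain ⟨y, hy⟩ := h2
  have h3 : EtCoh.KilledBy n (EtCoh.mu X n) := killedBy_mu X n
  have h4 : Subsingleton (EtCoh.H X (EtCoh.mu X n) r) :=
    K775.Hyp.cohDimLE h _ (K775.Hyp.isTorsion_of_killedBy hn.ne' h3) r (by omega)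
  have h5 : y = 0 := h4.elim y 0
  rw [← hy, h5]
  exact map_zero _

end K775.GmVan
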