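import Groth.Agent.HLoc2.K775.Decomp
import Groth.Agent.Etbase.StalkPull
import Groth.Agent.EtpbcA.PullFLC
import Groth.Agent.S0627
import Groth.Agent.S0141
import Groth.Prelude.Def_EtCore

/-!
# Embedding a constructible sheaf which is constant on a covering into `π_* M ⊕` finite support
-/

set_option autoImplicit false
universe u
open CategoryTheory CategoryTheory.Limits AlgebraicGeometry Opposite TopologicalSpace

namespace K775.MonoConst

open Groth.Agent Groth.Agent.Etcore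

/-- The unit `F → ρ_* ρ⁻¹ F` is injective on the stalks at geometric points which lift. -/
theorem injective_stalk_unit {X Y : Scheme.{u}} (ρ : Y ⟶ X) (F : EtCoh.Ab X) {Ω : Type u} [Field Ω]
    [IsSepClosed Ω] (ζ : Spec (CommRingCat.of Ω) ⟶ Y) :
    Mono ((EtCoh.stalk (ζ ≫ ρ)).map ((EtCoh.pullPushAdj ρ).unit.app F)) := by
  have h1 := (EtCoh.pullPushAdj ρ).left_triangle_components F
  have h2 : Mono ((EtCoh.stalk ζ).map ((EtCoh.pull ρ).map ((EtCoh.pullPushAdj ρ).unit.app F))) := by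
    have h3 : (EtCoh.stalk ζ).map ((EtCoh.pull ρ).map ((EtCoh.pullPushAdj ρ).unit.app F)) ≫
        (EtCoh.stalk ζ).map ((EtCoh.pullPushAdj ρ).counit.app ((EtCoh.pull ρ).obj F)) = 𝟙 _ := by
      rw [← Functor.map_comp, h1]
      exact CategoryTheory.Functor.map_id _ _
    exact mono_of_mono_fac h3
  have h4 := (Etbase.StalkPull.stalkPullIso ρ ζ).hom.naturality ((EtCoh.pullPushAdj ρ).unit.app F)
  have h5 : Mono ((EtCoh.stalk (ζ ≫ ρ)).map ((EtCoh.pullPushAdj ρ).unit.app F) ≫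
      (Etbase.StalkPull.stalkPullIso ρ ζ).hom.app _) := by
    rw [h4]
    have h6 : Mono ((EtCoh.pull ρ ⋙ EtCoh.stalk ζ).map ((EtCoh.pullPushAdj ρ).unit.app F)) := h2
    exact mono_comp _ _
  exact mono_of_mono _ ((Etbase.StalkPull.stalkPullIso ρ ζ).hom.app _)

section

variable {X Y : Scheme.{u}} [IsIntegral Y] (hnorm : ∀ y : Y, IsIntegrallyClosed (Y.presheaf.stalk y))
  (π : Y ⟶ X) (W : Y.Opens) (hW : (W : Set Y).Nonempty) (M : Type) [AddCommGroup M] (F : EtCoh.Ab X)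
  (e₀ : (EtCoh.pull W.ι).obj ((EtCoh.pull π).obj F) ≅ EtCoh.const (W : Scheme.{u}) M)

include hnorm hW in
theorem nonempty_push_const : Nonempty ((EtCoh.push W.ι).obj (EtCoh.const (W : Scheme.{u}) M) ≅ EtCoh.const Y M) := by
  have := Groth.Agent.S0627.result Y hnorm W hW M
  exact ⟨(EtCoh.push W.ι).mapIso (EtCore.pullConst W.ι M).symm ≪≫
    (asIso ((EtCoh.pullPushAdj W.ι).unit.app (EtCoh.const Y M))).symm⟩

include hnorm hW e₀ in
/-- The map `F → π_* M`, injective at the geometric points which lift to `W`. -/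
theorem exists_map : ∃ a : F ⟶ (EtCoh.push π).obj (EtCoh.const Y M),
    ∀ {Ω : Type u} [Field Ω] [IsSepClosed Ω] (ζ : Spec (CommRingCat.of Ω) ⟶ (W : Scheme.{u})),
      Mono ((EtCoh.stalk (ζ ≫ W.ι ≫ π)).map a) := by
  obtain ⟨e₂⟩ := nonempty_push_const hnorm W hW M
  let e₁ : (EtCoh.pull (W.ι ≫ π)).obj F ≅ EtCoh.const (W : Scheme.{u}) M :=
    ((EtpbcA.PullFLC.pullComp W.ι π).symm.app F) ≪≫ e₀
  let e₃ : (EtCoh.push (W.ι ≫ π)).obj ((EtCoh.pull (W.ι ≫ π)).obj F) ≅ (EtCoh.push π).obj (EtCoh.const Y M) :=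
    (EtCoh.push (W.ι ≫ π)).mapIso e₁ ≪≫ ((EtCoh.pushComp π W.ι).symm.app _) ≪≫ (EtCoh.push π).mapIso e₂
  refine ⟨(EtCoh.pullPushAdj (W.ι ≫ π)).unit.app F ≫ e₃.hom, fun ζ => ?_⟩
  rw [Functor.map_comp]
  have := injective_stalk_unit (W.ι ≫ π) F ζ
  exact mono_comp _ _

end

/-- The embedding. -/
theorem exists_mono {X Y : Scheme.{u}} [IsNoetherian X] [IsIntegral Y]
    (hnorm : ∀ y : Y, IsIntegrallyClosed (Y.presheaf.stalk y))
    (π : Y ⟶ X) [Surjective π] (V : X.Opens) (hV : (V : Set X).Nonempty) (hfin : ((V : Set X)ᶜ).Finite)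
    (M : Type) [AddCommGroup M] (F : EtCoh.Ab X) (hF : EtPBC.IsConstructible F) (m : ℕ) (hm : 0 < m)
    (hmF : EtCoh.KilledBy m F)
    (e₀ : (EtCoh.pull (π ⁻¹ᵁ V).ι).obj ((EtCoh.pull π).obj F) ≅ EtCoh.const (↑(π ⁻¹ᵁ V) : Scheme.{u}) M) :
    ∃ (Ff : EtCoh.Ab X), EtPBC.IsConstructible Ff ∧ (EtPBC.supp Ff).Finite ∧
        ∃ ι : F ⟶ (EtCoh.push π).obj (EtCoh.const Y M) ⊞ Ff, Mono ι := by
  have hW : ((π ⁻¹ᵁ V : Y.Opens) : Set Y).Nonempty := by
    obtain ⟨x, hx⟩ := hV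
    obtain ⟨y, rfl⟩ := π.surjective x
    exact ⟨y, hx⟩
  obtain ⟨a, ha⟩ := exists_map hnorm π (π ⁻¹ᵁ V) hW M F e₀
  let Z : Closeds X := ⟨(V : Set X)ᶜ, V.2.isClosed_compl⟩
  let I := Scheme.IdealSheafData.vanishingIdeal Z
  let i := I.subschemeι
  have hr : Set.range i = (V : Set X)ᶜ := by
    rw [Scheme.IdealSheafData.range_subschemeι, Scheme.IdealSheafData.coe_support_vanishingIdeal]
    rfl
  have hrV : Set.range V.ι = (V : Set X) := Scheme.Opens.range_ι V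
  have hd : IsCompl (Set.range i) (Set.range V.ι) := by
    rw [hr, hrV]
    exact isCompl_compl.symm
  let b : F ⟶ (EtCoh.push i).obj ((EtCoh.pull i).obj F) := (EtCoh.pullPushAdj i).unit.app F
  have hb : Epi b := (OpenClosed.shortExact i V.ι hd F).epi_g
  let φ : F ⟶ (EtCoh.push π).obj (EtCoh.const Y M) ⊞ (EtCoh.push i).obj ((EtCoh.pull i).obj F) := biprod.lift a b
  have hφ1 : φ ≫ biprod.fst = a := biprod.lift_fst _ _
  have hφ2 : φ ≫ biprod.snd = b := biprod.lift_snd _ _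
  refine ⟨(EtCoh.push i).obj ((EtCoh.pull i).obj F),
    Groth.Agent.S0141.result X b m hm hmF hF, ?_, φ, ?_⟩
  · refine hfin.subset fun x hx => ?_
    by_contra hxV
    rw [Set.mem_compl_iff, not_not] at hxV
    obtain ⟨Ω, _, _, ξ, hξ, hz⟩ := hx
    refine hz (OpenClosed.isZero_stalk_push i V.ι hd.disjoint ξ ?_ _)
    rw [hrV]
    have : ξ default ∈ Set.range ξ := ⟨default, rfl⟩
    rw [hξ] at this
    rw [Set.mem_singleton_iff.1 this]
    exact hxV
  · refine Stalks.mono_of_stalks _ fun x => ?_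
    by_cases hx : x ∈ V
    · obtain ⟨y, rfl⟩ := π.surjective x
      obtain ⟨Ω, _, _, ζ, hζ⟩ := Stalks.exists_geom (X := (↑(π ⁻¹ᵁ V) : Scheme.{u})) ⟨y, hx⟩
      refine ⟨Ω, inferInstance, inferInstance, ζ ≫ (π ⁻¹ᵁ V).ι ≫ π, ?_, ?_⟩
      · rw [Scheme.Hom.comp_apply, Scheme.Hom.comp_apply, hζ]
        rfl
      · have h1 := ha ζ
        rw [← hφ1, Functor.map_comp] at h1
        exact (AddCommGrpCat.mono_iff_injective _).1 (mono_of_mono _
          ((EtCoh.stalk (ζ ≫ (π ⁻¹ᵁ V).ι ≫ π)).map biprod.fst))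
    · obtain ⟨Ω, _, _, ξ, hξ⟩ := Stalks.exists_geom x
      refine ⟨Ω, inferInstance, inferInstance, ξ, hξ, ?_⟩
      have h1 : IsIso ((EtCoh.stalk ξ).map b) := by
        refine OpenClosed.isIso_stalk_unit i ξ ?_ F
        rw [hr, hξ]
        exact hx
      have h2 : Mono ((EtCoh.stalk ξ).map b) := inferInstance
      rw [← hφ2, Functor.map_comp] at h2
      exact (AddCommGrpCat.mono_iff_injective _).1 (mono_of_mono _ ((EtCoh.stalk ξ).map biprod.snd))

end K775.MonoConst
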