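import Groth.Agent.HLoc2.K775.PushGm
import Groth.Agent.HLoc2.K775.ExtPush
import Groth.Agent.Sga4h.RegDivMain
import Groth.Agent.Sga4h.UlaDvr
import Groth.Agent.Sga5.ClosedPush
import Mathlib.AlgebraicGeometry.Morphisms.ClosedImmersion

/-!
# `Ext^{r+1}(G, G_m)` for sheaves supported at a closed point
-/

set_option autoImplicit false
universe w v u
open CategoryTheory CategoryTheory.Limits CategoryTheory.Abelian AlgebraicGeometry Opposite TopologicalSpace

namespace K775.Pt

open K775.Setup Groth.Agent Groth.Agent.Sga4h.RegDiv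

/-- Dimension shift along a short exact sequence whose middle term is `Ext(G, -)`-acyclic. -/
noncomputable def extShift {C : Type u} [Category.{v} C] [Abelian C] [HasExt.{w} C] {S : ShortComplex C}
    (hS : S.ShortExact) (G : C) (h : ∀ r, Subsingleton (Ext G S.X₂ r)) (r : ℕ) :
    Ext G S.X₃ r ≃+ Ext G S.X₁ (r + 1) :=
  AddEquiv.ofBijective (hS.extClass.postcomp G rfl) (by
    constructor
    · rw [injective_iff_map_eq_zero]
      intro x hx
      obtain ⟨y, rfl⟩ := Ext.covariant_sequence_exact₃ G hS x rfl hx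
      rw [Subsingleton.elim y 0, Ext.zero_comp]
    · intro x
      obtain ⟨y, hy⟩ := Ext.covariant_sequence_exact₁ G hS x (Subsingleton.elim _ _) rfl
      exact ⟨y, hy⟩)

/-- `Ext` is invariant under isomorphisms of the second variable. -/
noncomputable def extPost {C : Type u} [Category.{v} C] [Abelian C] [HasExt.{w} C] (G : C) {A B : C} (e : A ≅ B)
    (r : ℕ) : Ext G A r ≃+ Ext G B r where
  toFun a := a.comp (Ext.mk₀ e.hom) (add_zero r)
  invFun a := a.comp (Ext.mk₀ e.inv) (add_zero r)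
  left_inv a := by
    dsimp only
    rw [Ext.comp_assoc_of_third_deg_zero, Ext.mk₀_comp_mk₀, Iso.hom_inv_id, Ext.comp_mk₀_id]
  right_inv a := by
    dsimp only
    rw [Ext.comp_assoc_of_third_deg_zero, Ext.mk₀_comp_mk₀, Iso.inv_hom_id, Ext.comp_mk₀_id]
  map_add' a b := Ext.add_comp _ _ _ _

/-- The local rings of the spectrum of a field. -/
theorem regular_field (L : Type u) [Field L] (y : Spec (CommRingCat.of L)) :
    IsRegularLocalRing ((Spec (CommRingCat.of L)).presheaf.stalk y) ∧
      ringKrullDim ((Spec (CommRingCat.of L)).presheaf.stalk y) = 0 := by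
  refine ⟨(Sga4h.UlaDvr.regular_spec_pid L y).1, ?_⟩
  rw [ringKrullDim_stalk L y]
  have : y.asIdeal = ⊥ :=
    (Ideal.eq_bot_or_top y.asIdeal).resolve_right (PrimeSpectrum.isPrime (R := L) y).ne_top
  rw [this]
  have h3 : (⊥ : Ideal L).height = 0 := Ideal.height_bot
  rw [h3]
  rfl

variable {X : Scheme.{u}} (h : Ded X) (x : X) (hx : ∃ y : X, y ⤳ x ∧ y ≠ x)

include h hx in
theorem isClosed : IsClosed ({x} : Set X) := by
  have := h.int
  obtain ⟨y, hy, hyx⟩ := hx
  refine K775.Cd.isClosed_singleton h fun he => hyx ?_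
  subst he
  exact (hy.antisymm (genericPoint_specializes y)).eq

include h hx in
theorem ringKrullDim_eq : ringKrullDim (X.presheaf.stalk x) = 1 := by
  refine Sga4h.X144Geo1.dim_eq_one (h.dim x) fun h0 => ?_
  obtain ⟨y, hy, hyx⟩ := hx
  have hr : y ∈ Set.range (X.fromSpecStalk x) := by rw [Scheme.range_fromSpecStalk]; exact hy
  obtain ⟨p, rfl⟩ := hr
  have h1 : Ring.KrullDimLE 0 (X.presheaf.stalk x) := (Ring.krullDimLE_iff).2 (by exact_mod_cast h0)
  have hm : p.asIdeal.IsMaximal := Ideal.IsPrime.isMaximal' (PrimeSpectrum.isPrime (R := X.presheaf.stalk x) p)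
  have h2 : p = IsLocalRing.closedPoint _ := PrimeSpectrum.ext (IsLocalRing.eq_maximalIdeal hm)
  exact hyx (by rw [h2, Scheme.fromSpecStalk_closedPoint])

include h hx in
theorem isRegDiv : IsRegDiv (X.fromSpecResidueField x) where
  noeth := h.noeth.toIsLocallyNoetherian
  closed := isClosed_singleton_iff_isClosedImmersion.1 (isClosed h x hx)
  regX y := h.reg _
  regD y := (regular_field (X.residueField x) y).1
  codim y := by
    have h1 : ringKrullDim ((Spec (X.residueField x)).presheaf.stalk y) = 0 := (regular_field (X.residueField x) y).2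
    rw [h1, zero_add]
    have h2 : X.fromSpecResidueField x y = x := Scheme.fromSpecResidueField_apply _ _
    rw [h2]
    exact ringKrullDim_eq h x hx

/-- The complement of the point. -/
def cpl (hc : IsClosed ({x} : Set X)) : X.Opens := ⟨{x}ᶜ, hc.isOpen_compl⟩

theorem range_cpl (hc : IsClosed ({x} : Set X)) :
    Set.range (cpl x hc).ι = (Set.range (X.fromSpecResidueField x))ᶜ := by
  rw [Scheme.Opens.range_ι, Scheme.range_fromSpecResidueField]
  rfl

include h hx in
theorem dense_cpl (hc : IsClosed ({x} : Set X)) : Dense (Set.range (cpl x hc).ι.base) := by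
  have := h.int
  have h1 : Set.range (cpl x hc).ι.base = ((cpl x hc : X.Opens) : Set X) := Scheme.Opens.range_ι _
  rw [h1]
  obtain ⟨y, hy, hyx⟩ := hx
  exact (cpl x hc).2.dense ⟨y, hyx⟩

/-- The exact sequence `0 → G_m → j_* G_m → i_* ℤ → 0`. -/
noncomputable def sc (hc : IsClosed ({x} : Set X)) : ShortComplex (EtCoh.Ab X) :=
  ShortComplex.mk (Sga4h.GmDiv.resU (cpl x hc).ι)
    (Sga4h.GmDiv.div (isRegDiv h x hx) (range_cpl x hc)) (Sga4h.GmDiv.resU_div (isRegDiv h x hx) (range_cpl x hc))

theorem sc_shortExact (hc : IsClosed ({x} : Set X)) : (sc h x hx hc).ShortExact where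
  exact := Sga4h.RegDivMain.exact_resU_div (isRegDiv h x hx) (range_cpl x hc)
  mono_f := Sga4h.GmDiv.mono_resU (isRegDiv h x hx) (range_cpl x hc)
  epi_g := Sga4h.GmDiv.epi_div (isRegDiv h x hx) (range_cpl x hc)

theorem subsingleton_ext (hc : IsClosed ({x} : Set X)) (G : EtCoh.Ab X)
    (hG : IsZero ((EtCoh.pull (cpl x hc).ι).obj G)) (r : ℕ) : Subsingleton (Ext.{u + 1} G (sc h x hx hc).X₂ r) := by
  have := Groth.Agent.S0101.result (cpl x hc).ι
  exact K775.ExtPush.subsingleton_ext (EtCoh.pull (cpl x hc).ι) (EtCoh.push (cpl x hc).ι)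
    (EtCoh.pullPushAdj (cpl x hc).ι) G hG r (EtCoh.Gm _)
    (fun q => K775.PushGm.isZero_Rpush_Gm h (cpl x hc).ι (dense_cpl h x hx hc) q)

include h hx in
/-- `Hom(G, G_m) = 0`. -/
theorem ext_zero (hc : IsClosed ({x} : Set X)) (G : EtCoh.Ab X)
    (hG : IsZero ((EtCoh.pull (cpl x hc).ι).obj G)) : Subsingleton (Ext.{u + 1} G (EtCoh.Gm X) 0) := by
  have h1 := subsingleton_ext h x hx hc G hG 0
  have hm := (sc_shortExact h x hx hc).mono_f
  refine subsingleton_of_forall_eq 0 fun a => ?_
  obtain ⟨f, rfl⟩ := (Ext.mk₀_bijective _ _).2 a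
  have h2 : Ext.mk₀ (f ≫ (sc h x hx hc).f) = 0 := h1.elim _ _
  rw [Ext.mk₀_eq_zero_iff] at h2
  rw [Ext.mk₀_eq_zero_iff]
  exact (cancel_mono (sc h x hx hc).f).1 (h2.trans zero_comp.symm)

include h hx in
/-- `Ext^{r+1}(G, G_m) = Ext^r(i⁻¹ G, ℤ)`. -/
theorem nonempty_equiv (hc : IsClosed ({x} : Set X)) (G : EtCoh.Ab X)
    (hG : IsZero ((EtCoh.pull (cpl x hc).ι).obj G)) (r : ℕ) :
    Nonempty (Ext.{u + 1} G (EtCoh.Gm X) (r + 1) ≃+
      Ext.{u + 1} ((EtCoh.pull (X.fromSpecResidueField x)).obj G)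
        (EtCoh.const (Spec (X.residueField x)) ℤ) r) := by
  have hcl : IsClosedImmersion (X.fromSpecResidueField x) := isClosed_singleton_iff_isClosedImmersion.1 hc
  have e1 := extShift (sc_shortExact h x hx hc) G (subsingleton_ext h x hx hc G hG) r
  have hl := Groth.Agent.S0101.result (X.fromSpecResidueField x)
  have hr := Groth.Agent.Sga5.ClosedPush.preservesFiniteColimits_push (X.fromSpecResidueField x)
  have hrl : PreservesFiniteLimits (EtCoh.push (X.fromSpecResidueField x)) :=
    ⟨fun _ => ((EtCoh.pullPushAdj (X.fromSpecResidueField x)).rightAdjoint_preservesLimits.{0, 0}).preservesLimitsOfShape⟩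
  have e2 := Groth.Agent.CohtopA.ExtAdj.extOfHomEquiv (EtCoh.push (X.fromSpecResidueField x))
    ((EtCoh.pullPushAdj (X.fromSpecResidueField x)).unit.app G)
    (fun Y => by
      have := ((EtCoh.pullPushAdj (X.fromSpecResidueField x)).homEquiv G Y).bijective
      exact this)
    (fun I _ n => by
      have : Injective ((EtCoh.push (X.fromSpecResidueField x)).obj I) :=
        Injective.injective_of_adjoint (EtCoh.pullPushAdj (X.fromSpecResidueField x)) I
      exact Ext.subsingleton_of_injective _ _ _)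
    (Groth.Agent.Sga4B.ConstLC.LC (Spec (X.residueField x)) (ULift.{u + 1} ℤ)) r
  have e3 := extPost ((EtCoh.pull (X.fromSpecResidueField x)).obj G)
    (Groth.Agent.Sga4B.ConstLC.constIso (Spec (X.residueField x)) ℤ) r
  exact ⟨e1.symm.trans (e2.symm.trans e3.symm)⟩

end K775.Pt
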