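import Groth.Agent.Ega4B.NormalSep
import Groth.Agent.S1964
import Groth.Agent.FlatA.DimFin
import Mathlib.FieldTheory.IsSepClosed
import Mathlib.RingTheory.Henselian
import Mathlib.RingTheory.TensorProduct.Basic
import Mathlib.RingTheory.IntegralClosure.IntegrallyClosed
import Mathlib.RingTheory.KrullDimension.Basic
import Mathlib.RingTheory.LocalRing.ResidueField.Defs

/-!
# Base change of a henselian local domain to the separable closure of a coefficient field
-/

set_option autoImplicit false
universe u
open scoped TensorProduct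

namespace K775.SepBC

variable (k : Type u) [Field k] (R : Type u) [CommRing R] [Algebra k R]
  (L : Type u) [Field L] [Algebra k L]

theorem isIntegral [Algebra.IsAlgebraic k L] : Algebra.IsIntegral R (R ⊗[k] L) := inferInstance

theorem injective : Function.Injective (algebraMap R (R ⊗[k] L)) := by
  have : FaithfulSMul k L := inferInstance
  exact Algebra.TensorProduct.includeLeft_injective (S := R) (FaithfulSMul.algebraMap_injective k L)

/-- The residue field. -/
theorem residue_surjective [IsLocalRing R] [IsLocalRing (R ⊗[k] L)]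
    [hloc : IsLocalHom (algebraMap R (R ⊗[k] L))]
    (hres : Function.Surjective (fun a : k => IsLocalRing.residue R (algebraMap k R a))) :
    Function.Surjective (fun a : L => IsLocalRing.residue (R ⊗[k] L)
      ((Algebra.TensorProduct.includeRight : L →ₐ[k] R ⊗[k] L) a)) := by
  intro y
  obtain ⟨s, rfl⟩ := IsLocalRing.residue_surjective y
  induction s using TensorProduct.induction_on with
  | zero => exact ⟨0, by simp⟩
  | tmul r l =>
    obtain ⟨a, ha⟩ := hres (IsLocalRing.residue R r)
    refine ⟨algebraMap k L a * l, ?_⟩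
    have h1 : r - algebraMap k R a ∈ IsLocalRing.maximalIdeal R := by
      rw [← IsLocalRing.residue_eq_zero_iff, map_sub, sub_eq_zero]
      exact ha.symm
    have h2 : algebraMap R (R ⊗[k] L) (r - algebraMap k R a) ∈ IsLocalRing.maximalIdeal (R ⊗[k] L) := by
      have := ((IsLocalRing.local_hom_TFAE (algebraMap R (R ⊗[k] L))).out 0 2).1 hloc
      exact this (Ideal.mem_map_of_mem _ h1)
    change IsLocalRing.residue (R ⊗[k] L) (1 ⊗ₜ[k] (algebraMap k L a * l)) = _
    rw [← sub_eq_zero, ← map_sub, IsLocalRing.residue_eq_zero_iff]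
    have h3 : (1 : R) ⊗ₜ[k] (algebraMap k L a * l) - r ⊗ₜ[k] l =
        - (algebraMap R (R ⊗[k] L) (r - algebraMap k R a) * (1 ⊗ₜ[k] l)) := by
      rw [Algebra.TensorProduct.algebraMap_apply, Algebra.TensorProduct.tmul_mul_tmul]
      simp only [Algebra.algebraMap_self, RingHom.id_apply, one_mul, mul_one, TensorProduct.sub_tmul, neg_sub]
      rw [← Algebra.smul_def, TensorProduct.tmul_smul, TensorProduct.smul_tmul', Algebra.smul_def, mul_one]
    rw [h3]
    exact neg_mem (Ideal.mul_mem_right _ _ h2)
  | add x y hx hy =>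
    obtain ⟨a, ha⟩ := hx
    obtain ⟨b, hb⟩ := hy
    refine ⟨a + b, ?_⟩
    have e : ((Algebra.TensorProduct.includeRight : L →ₐ[k] R ⊗[k] L) (a + b)) =
      (Algebra.TensorProduct.includeRight : L →ₐ[k] R ⊗[k] L) a +
        (Algebra.TensorProduct.includeRight : L →ₐ[k] R ⊗[k] L) b := map_add _ _ _
    simp only at ha hb ⊢
    rw [e, map_add, ha, hb, map_add]

theorem isIntegrallyClosed [IsDomain R] [IsIntegrallyClosed R] [Algebra.IsSeparable k L]
    [IsDomain (R ⊗[k] L)] [IsLocalRing (R ⊗[k] L)] : IsIntegrallyClosed (R ⊗[k] L) := by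
  have e : R ⊗[k] L ≃+* L ⊗[k] R := (Algebra.TensorProduct.comm k R L).toRingEquiv
  have : IsDomain (L ⊗[k] R) := e.symm.toMulEquiv.isDomain _
  have : IsLocalRing (L ⊗[k] R) := IsLocalRing.of_surjective' (e : R ⊗[k] L →+* L ⊗[k] R) e.surjective
  have h1 := (Groth.Agent.Ega4B.NormalSep.isNormalRing_tensor_separable (k := k) (k' := L) (A := R)
    (IsLocalRing.maximalIdeal (L ⊗[k] R))).2
  have h2 : IsIntegrallyClosed (L ⊗[k] R) := by
    have hb : (IsLocalRing.maximalIdeal (L ⊗[k] R)).primeCompl ≤ IsUnit.submonoid _ := by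
      intro x hx
      exact not_not.1 fun h => hx ((IsLocalRing.mem_maximalIdeal _).2 h)
    exact IsIntegrallyClosed.of_equiv
      (IsLocalization.atUnits (L ⊗[k] R) (IsLocalRing.maximalIdeal (L ⊗[k] R)).primeCompl
        (S := Localization.AtPrime (IsLocalRing.maximalIdeal (L ⊗[k] R))) hb).symm.toRingEquiv
  exact IsIntegrallyClosed.of_equiv e.symm

end K775.SepBC
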