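import Groth.Prelude.Def_EtBase
import Groth.Prelude.Def_Dix
import Groth.Prelude.Def_EGA4b
import Groth.Agent.FlatA.DimFin
import Mathlib.FieldTheory.IsAlgClosed.Basic
import Mathlib.RingTheory.DedekindDomain.IntegralClosure
import Mathlib.RingTheory.DiscreteValuationRing.TFAE
import Mathlib.RingTheory.RegularLocalRing.Defs
import Mathlib.RingTheory.Localization.Integral
import Mathlib.FieldTheory.Perfect
import Mathlib.AlgebraicGeometry.Noetherian
import Mathlib.AlgebraicGeometry.ResidueField
import Mathlib.AlgebraicGeometry.FunctionField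

/-!
# Open subschemes of the non-closed points of the spectrum of a two-dimensional normal henselian local domain

`Ded U` collects the properties used: Noetherian, integral, normal, of dimension at most one, residue
characteristics zero.
-/

set_option autoImplicit false
universe u
open CategoryTheory CategoryTheory.Limits AlgebraicGeometry Opposite TopologicalSpace

namespace K775.Setup

/-- A Noetherian integral normal scheme of dimension at most one over `ℚ`. -/
structure Ded (U : Scheme.{u}) : Prop where
  noeth : IsNoetherian U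
  int : IsIntegral U
  norm : ∀ x : U, IsIntegrallyClosed (U.presheaf.stalk x)
  dim : ∀ x : U, ringKrullDim (U.presheaf.stalk x) ≤ 1
  char0 : ∀ n : ℕ, 0 < n → Dix.InvertibleOn U n

section

variable (k : Type u) [Field k] [CharZero k]
    (R₀ : Type u) [CommRing R₀] [IsDomain R₀] [Algebra k R₀]
    [IsIntegrallyClosed R₀] (hexc : EGA4.IsExcellent R₀) (hdim : ringKrullDim R₀ = 2)
    (K : Type u) [Field K] [Algebra R₀ K] [Algebra (FractionRing R₀) K]
    [IsScalarTower R₀ (FractionRing R₀) K] [FiniteDimensional (FractionRing R₀) K]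

include k in
omit [IsIntegrallyClosed R₀] in
theorem charZero_frac : CharZero (FractionRing R₀) :=
  charZero_of_injective_algebraMap (R := k) (algebraMap k (FractionRing R₀)).injective

omit [IsIntegrallyClosed R₀] [FiniteDimensional (FractionRing R₀) K] in
theorem injective_K : Function.Injective (algebraMap R₀ K) := by
  rw [IsScalarTower.algebraMap_eq R₀ (FractionRing R₀) K]
  exact (algebraMap (FractionRing R₀) K).injective.comp (IsFractionRing.injective R₀ _)

include k hexc in
theorem isNoetherianRing_O : IsNoetherianRing (integralClosure R₀ K) := by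
  have := charZero_frac k R₀
  have : IsNoetherianRing R₀ := hexc.1
  exact integralClosure.isNoetherianRing (A := R₀) (K := FractionRing R₀) (L := K)

omit [IsIntegrallyClosed R₀] in
theorem isFractionRing_O : IsFractionRing (integralClosure R₀ K) K :=
  integralClosure.isFractionRing_of_finite_extension (FractionRing R₀) K

omit [IsIntegrallyClosed R₀] in
theorem isIntegrallyClosed_O : IsIntegrallyClosed (integralClosure R₀ K) :=
  integralClosure.isIntegrallyClosedOfFiniteExtension (FractionRing R₀)

include hdim in
omit [IsIntegrallyClosed R₀] [FiniteDimensional (FractionRing R₀) K] in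
theorem ringKrullDim_O : ringKrullDim (integralClosure R₀ K) = 2 := by
  rw [← hdim]
  refine Groth.Agent.FlatA.DimFin.ringKrullDim_eq_of_isIntegral_of_injective R₀ _ ?_
  intro x y h
  exact injective_K R₀ K (congrArg (algebraMap (integralClosure R₀ K) K) h)

end

/-- Primes which are not maximal have height at most one in dimension two. -/
theorem height_le_one {O : Type u} [CommRing O] (hdim : ringKrullDim O ≤ 2) (P : Ideal O) [hP : P.IsPrime]
    (hm : ¬ P.IsMaximal) : P.height ≤ 1 := by
  obtain ⟨M, hM, hle⟩ := Ideal.exists_le_maximal P hP.ne_top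
  have hlt : P < M := lt_of_le_of_ne hle (fun h => hm (h ▸ hM))
  have h1 : P.height + 1 ≤ M.height := by
    have := hM.isPrime
    exact Ideal.height_add_one_le_of_lt_of_isPrime hlt
  have h2 : (M.height : WithBot ℕ∞) ≤ 2 := (Ideal.height_le_ringKrullDim_of_ne_top hM.ne_top).trans hdim
  have h3 : ((P.height + 1 : ℕ∞) : WithBot ℕ∞) ≤ 2 := (WithBot.coe_le_coe.2 h1).trans h2
  have h4 : (P.height + 1 : ℕ∞) ≤ 1 + 1 := by
    rw [one_add_one_eq_two]
    exact WithBot.coe_le_coe.1 h3
  exact (ENat.add_le_add_iff_right (by simp)).1 h4

/-- Noetherian local normal domains of dimension at most one are principal. -/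
theorem isPrincipalIdealRing (A : Type u) [CommRing A] [IsDomain A] [IsLocalRing A] [IsNoetherianRing A]
    [IsIntegrallyClosed A] (h : ringKrullDim A ≤ 1) : IsPrincipalIdealRing A := by
  by_cases hf : IsField A
  · let _ := hf.toField
    infer_instance
  · have h1 : Ring.DimensionLEOne A := by
      have h2 : Ring.KrullDimLE 1 A := Ring.krullDimLE_iff.2 h
      exact ⟨fun {p} hp hp' => (Ring.krullDimLE_one_iff_of_noZeroDivisors.1 h2) p hp hp'⟩
    have h3 : IsDedekindDomain A := { }
    have h4 : IsDiscreteValuationRing A := ((IsDiscreteValuationRing.TFAE A hf).out 2 0).1 h3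
    infer_instance

theorem Ded.pid {U : Scheme.{u}} (h : Ded U) (x : U) : IsPrincipalIdealRing (U.presheaf.stalk x) := by
  have := h.int
  have := h.noeth
  have := h.norm x
  exact isPrincipalIdealRing _ (h.dim x)

theorem Ded.reg {U : Scheme.{u}} (h : Ded U) (x : U) : IsRegularLocalRing (U.presheaf.stalk x) := by
  have := h.int
  have := h.noeth
  have := h.pid x
  infer_instance

theorem Ded.ufd {U : Scheme.{u}} (h : Ded U) (x : U) : UniqueFactorizationMonoid (U.presheaf.stalk x) := by
  have := h.int
  have := h.noeth
  have := h.pid x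
  infer_instance

theorem isIntegrallyClosed_stalk (O : Type u) [CommRing O] [IsDomain O] [IsIntegrallyClosed O]
    (y : Spec (CommRingCat.of O)) : IsIntegrallyClosed ((Spec (CommRingCat.of O)).presheaf.stalk y) := by
  let _ : Algebra O ((Spec (CommRingCat.of O)).presheaf.stalk y) := StructureSheaf.stalkAlgebra O y
  have hp : y.asIdeal.IsPrime := PrimeSpectrum.isPrime (R := O) y
  have h1 : IsLocalization.AtPrime ((Spec (CommRingCat.of O)).presheaf.stalk y) y.asIdeal :=
    StructureSheaf.IsLocalization.to_stalk O y
  exact isIntegrallyClosed_of_isLocalization (R := O) _ y.asIdeal.primeCompl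
    (Ideal.primeCompl_le_nonZeroDivisors _)

theorem ringKrullDim_stalk (O : Type u) [CommRing O] (y : Spec (CommRingCat.of O)) :
    ringKrullDim ((Spec (CommRingCat.of O)).presheaf.stalk y) = y.asIdeal.height := by
  let _ : Algebra O ((Spec (CommRingCat.of O)).presheaf.stalk y) := StructureSheaf.stalkAlgebra O y
  have h1 : IsLocalization.AtPrime ((Spec (CommRingCat.of O)).presheaf.stalk y) y.asIdeal :=
    StructureSheaf.IsLocalization.to_stalk O y
  exact IsLocalization.AtPrime.ringKrullDim_eq_height y.asIdeal
    ((Spec (CommRingCat.of O)).presheaf.stalk y)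

section

variable (k : Type u) [Field k] [CharZero k]
    (R₀ : Type u) [CommRing R₀] [IsDomain R₀] [Algebra k R₀]
    [IsIntegrallyClosed R₀] (hexc : EGA4.IsExcellent R₀) (hdim : ringKrullDim R₀ = 2)
    (K : Type u) [Field K] [Algebra R₀ K] [Algebra (FractionRing R₀) K]
    [IsScalarTower R₀ (FractionRing R₀) K] [FiniteDimensional (FractionRing R₀) K]
    (U : (Spec (CommRingCat.of ↥(integralClosure R₀ K))).Opens)
    (hU : ∀ x : ↥(Spec (CommRingCat.of ↥(integralClosure R₀ K))), x ∈ U →
      ¬ IsClosed ({x} : Set ↥(Spec (CommRingCat.of ↥(integralClosure R₀ K)))))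
    (hne : Nonempty ↥(↑U : Scheme.{u}))

include k hexc hdim hU hne in
theorem ded : Ded (↑U : Scheme.{u}) := by
  have := isNoetherianRing_O k R₀ hexc K
  have hic := isIntegrallyClosed_O R₀ K
  have hd := ringKrullDim_O R₀ hdim K
  have h2 : IsNoetherian (Spec (CommRingCat.of (integralClosure R₀ K))) := inferInstance
  have hln : IsLocallyNoetherian (U : Scheme.{u}) := isLocallyNoetherian_of_isOpenImmersion U.ι
  have hcs : CompactSpace (U : Scheme.{u}) :=
    isCompact_iff_compactSpace.1 (NoetherianSpace.isCompact (U : Set (Spec (CommRingCat.of (integralClosure R₀ K)))))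
  have hint : IsIntegral (Spec (CommRingCat.of (integralClosure R₀ K))) := inferInstance
  refine ⟨{ }, inferInstance, fun x => ?_, fun x => ?_, fun n hn x => ?_⟩
  · have h3 := isIntegrallyClosed_stalk (integralClosure R₀ K) (U.ι x)
    exact IsIntegrallyClosed.of_equiv (asIso (U.ι.stalkMap x)).commRingCatIsoToRingEquiv
  · rw [← ringKrullDim_eq_of_ringEquiv (asIso (U.ι.stalkMap x)).commRingCatIsoToRingEquiv]
    rw [ringKrullDim_stalk (integralClosure R₀ K) (U.ι x)]
    have h4 : ¬ (U.ι x).asIdeal.IsMaximal := by
      intro hm
      exact hU (U.ι x) x.2 ((PrimeSpectrum.isClosed_singleton_iff_isMaximal _).2 hm)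
    have h5 := height_le_one hd.le (U.ι x).asIdeal h4
    exact_mod_cast h5
  · let φ : k →+* (U : Scheme.{u}).residueField x :=
      ((((U : Scheme.{u}).residue x).hom.comp (U.ι.stalkMap x).hom).comp
        (StructureSheaf.toStalk (integralClosure R₀ K) (U.ι x)).hom).comp
        ((algebraMap R₀ (integralClosure R₀ K)).comp (algebraMap k R₀))
    have h6 : CharZero ((U : Scheme.{u}).residueField x) := charZero_of_injective_ringHom φ.injective
    exact Nat.cast_ne_zero.2 hn.ne'

end

end K775.Setup
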